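import Cfsg.Agent.TT.R1
import Cfsg.Agent.Polar.Idx

set_option autoImplicit false

/-! Counting with a normal `p`-subgroup of a transitive subgroup. -/

namespace Cfsg.Agent.TT
open MulAction Cfsg.Agent.Polar
open scoped commutatorElement

variable {G Ω : Type*} [Group G] [Finite G] [MulAction G Ω] [Finite Ω] {p : ℕ} [Fact p.Prime]

theorem T2.core (h : T2 G Ω) {Z P : Subgroup G} (hZ : IsPGroup p Z) (hP : ∀ g ∈ P, ∀ z ∈ Z, g * z * g⁻¹ ∈ Z)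
    (ht : ∀ x y : Ω, ∃ g ∈ P, g • x = y) {z : G} (hz : z ∈ Z) {x : Ω} (hx : z • x ≠ x) :
    ∃ k a μ, k * p ^ a = Nat.card Z ∧ 1 ≤ a ∧ (∀ x : Ω, Nat.card ↥(stabilizer G x ⊓ Z) = k) ∧
      (∀ x : Ω, (stabilizer G x).relIndex Z = p ^ a) ∧ p ^ a ∣ Nat.card Ω ∧
      μ * (Nat.card Ω - 1) = P.index * (p ^ a - 1) := by
  have k0 : ∀ y : Ω, {a ∈ (Z : Set G) | a • y = y}.ncard = Nat.card ↥(stabilizer G y ⊓ Z) := fun y => by
    rw [← Nat.card_coe_set_eq]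
    exact Nat.card_congr (Equiv.subtypeEquivRight fun _ => and_comm)
  have k1 : ∀ y : Ω, Nat.card ↥(stabilizer G y ⊓ Z) = Nat.card ↥(stabilizer G x ⊓ Z) := fun y => by
    rw [← k0, ← k0]; exact r1_const hP ht y x
  obtain ⟨a, ha⟩ := hZ.index ((stabilizer G x).subgroupOf Z)
  have k2 := relIndex_mul_card (stabilizer G x) Z
  have k3 : ∀ y : Ω, (stabilizer G y).relIndex Z = p ^ a := fun y =>
    Nat.eq_of_mul_eq_mul_right Nat.card_pos ((relIndex_mul_card _ _).trans (by rw [k1, ← ha]; exact k2.symm))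
  have k4 : 1 ≤ a := Nat.pos_of_ne_zero (by
    rintro rfl
    exact hx ((Subgroup.index_eq_one.1 ha).ge (Subgroup.mem_top (⟨z, hz⟩ : Z))))
  have k5 := pow_dvd_card hZ fun y => (k3 y).ge
  obtain ⟨lam, -, hl⟩ := h.cnt hP fun y => (k0 y).trans (k1 y)
  rw [← Nat.card_coe_set_eq, SetLike.coe_sort_coe, ← k2, k3] at hl
  obtain ⟨b, hb⟩ := IsPGroup.iff_card.1 (hZ.to_le (inf_le_right : stabilizer G x ⊓ Z ≤ Z))
  have k6 : lam * (Nat.card Ω - 1) = p ^ b * (P.index * (p ^ a - 1)) := by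
    rw [hb] at hl
    zify [Nat.one_le_pow a p (Fact.out : p.Prime).pos, h.two_le.trans' one_le_two] at hl ⊢
    linear_combination hl
  obtain ⟨μ, rfl⟩ : p ^ b ∣ lam := (Nat.Coprime.pow_left b ((Nat.Prime.coprime_iff_not_dvd Fact.out).2 fun e =>
    (Fact.out : p.Prime).not_dvd_one (by
      have := Nat.dvd_sub ((dvd_pow_self p (by omega)).trans k5) e
      rwa [Nat.sub_sub_self (h.two_le.trans' one_le_two)] at this))).dvd_of_dvd_mul_right ⟨_, k6⟩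
  refine ⟨_, a, μ, by rw [← k2, k3, mul_comm], k4, k1, k3, k5,
    Nat.eq_of_mul_eq_mul_left (pow_pos (Fact.out : p.Prime).pos b) (by rw [← k6, mul_assoc])⟩

theorem more {Z Y : Subgroup G} (hY : IsPGroup p Y) (hZ : Z ≤ Y) (hc : ∀ y ∈ Y, ∀ z ∈ Z, y * z = z * y)
    (hd : ∀ K : Subgroup G, (∀ y ∈ Y, ∀ y' ∈ Y, ⁅y, y'⁆ ∈ K) → Z ≤ K) {a : ℕ} (ha : 1 ≤ a)
    (h : ∀ x : Ω, (stabilizer G x).relIndex Z = p ^ a) : p ^ (a + 1) ∣ Nat.card Ω := by
  refine pow_dvd_card hY fun x => ?_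
  obtain ⟨b, hb⟩ := hY.index ((stabilizer G x).subgroupOf Y)
  have hp := (Fact.out : p.Prime).one_lt
  have k : ∀ Γ : Subgroup G, (stabilizer G x).relIndex Γ = ((fun g => g • x) '' (Γ : Set G)).ncard := fun Γ =>
    relIndex_eq_ncard _ _ _ fun g _ k _ => by rw [mem_stabilizer_iff, mul_smul, inv_smul_eq_iff, eq_comm]
  rw [Subgroup.relIndex, hb]
  refine Nat.pow_le_pow_right hp.le ((Nat.pow_lt_pow_iff_right hp).1 ?_)
  rw [← h x, ← hb, ← Subgroup.relIndex, k, k]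
  refine Set.ncard_lt_ncard (Set.ssubset_iff_subset_ne.2 ⟨Set.image_mono hZ, fun e => ?_⟩)
  have k2 : ∀ y ∈ Y, ∃ z ∈ Z, z⁻¹ * y ∈ stabilizer G x := fun y hy => by
    obtain ⟨z, hz, e⟩ := e.ge ⟨y, hy, rfl⟩
    exact ⟨z, hz, by rw [mem_stabilizer_iff, mul_smul, inv_smul_eq_iff]; exact e.symm⟩
  have := Subgroup.relIndex_eq_one.2 (hd (stabilizer G x) fun y hy y' hy' => by
    obtain ⟨z, hz, h1⟩ := k2 y hy
    obtain ⟨z', hz', h2⟩ := k2 y' hy'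
    have c1 : Commute z⁻¹ y' := (hc _ hy' _ (inv_mem hz)).symm
    have c2 : Commute z'⁻¹ (z⁻¹ * y) := (hc _ (mul_mem (inv_mem (hZ hz)) hy) _ (inv_mem hz')).symm
    have c3 : Commute z⁻¹ y := (hc _ hy _ (inv_mem hz)).symm
    have e1 : ⁅z⁻¹ * y, z'⁻¹ * y'⁆ = ⁅z⁻¹ * y, y'⁆ := by
      rw [commutatorElement_def, commutatorElement_def, ← mul_assoc, ← c2.eq,
        (hc _ hy' _ (inv_mem hz')).symm, mul_inv_rev y', mul_assoc z'⁻¹, mul_assoc z'⁻¹,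
        (hc _ (mul_mem (mul_mem (mul_mem (inv_mem (hZ hz)) hy) hy') (inv_mem (mul_mem (inv_mem (hZ hz)) hy))) _
        (inv_mem hz')).symm]
      group
    have e2 : ⁅z⁻¹ * y, y'⁆ = ⁅y, y'⁆ := by
      rw [commutatorElement_def, commutatorElement_def, mul_assoc z⁻¹, (c3.mul_right c1).eq, c3.eq]
      group
    rw [← e2, ← e1]
    exact mul_mem (mul_mem (mul_mem h1 h2) (inv_mem h1)) (inv_mem h2))
  rw [h x] at this
  exact (Nat.one_lt_pow (by omega) hp).ne' this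

theorem core_ar {μ n N A : ℕ} (h : μ * (n - 1) = N * (A - 1)) (h1 : A ∣ n) (h2 : N ≡ 1 [MOD A]) (h3 : N ≤ n)
    (h4 : 2 ≤ A) (h5 : A < N) : n = N * (A - 1) + 1 := by
  obtain ⟨c, rfl⟩ := h1
  obtain ⟨t, ht⟩ := (Nat.modEq_iff_dvd' (by omega)).1 h2.symm
  obtain ⟨n, hn⟩ : ∃ n, A * c = n + 1 := ⟨A * c - 1, by omega⟩
  obtain ⟨A, rfl⟩ : ∃ B, A = B + 1 := ⟨A - 1, by omega⟩
  obtain rfl : N = (A + 1) * t + 1 := by omega
  rw [hn] at h h3 ⊢
  rw [Nat.add_sub_cancel, Nat.add_sub_cancel] at *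
  have e : (μ : ℤ) - 1 = (A + 1) * (μ * c - A * t - 1) := by
    zify at h hn; linear_combination -h - μ * hn
  have h6 : μ < A + 2 := by
    by_contra h6
    have := Nat.mul_le_mul (not_lt.1 h6) (show (A + 1) * t ≤ n by omega)
    nlinarith
  have h7 : (μ * c - A * t - 1 : ℤ) = 0 := by
    by_contra h7
    rcases lt_or_gt_of_ne h7 with h7 | h7 <;> nlinarith
  rw [h7, mul_zero, sub_eq_zero] at e
  rw [← h, Nat.cast_eq_one.1 e, one_mul]

theorem T2.kill (h : T2 G Ω) {Z P : Subgroup G} (hP : ∀ g ∈ P, ∀ z ∈ Z, g * z * g⁻¹ ∈ Z)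
    (hf : ∀ z ∈ Z, z ≠ 1 → ∀ x : Ω, z • x ≠ x) (hn : Nat.card Ω - 1 = P.index * (Nat.card Z - 1))
    {d z w : G} (hd : d ∈ Z) (hd1 : d ≠ 1) (hz : z ∈ Z) (hz1 : z ≠ 1) (hw : w ∉ P) :
    fix Ω (d⁻¹ * (w * z * w⁻¹)) = 0 := by
  have := h.pair ((Z : Set G) \ {1}) P (fun g hg a ha => ⟨hP g hg a ha.1, by simpa using ha.2⟩)
    (fun a ha => hf a ha.1 ha.2) (lam := 1) (by
      rw [one_mul, hn, Set.ncard_sdiff_singleton_of_mem Z.one_mem, ← Nat.card_coe_set_eq]; rfl)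
    ⟨hd, hd1⟩ ⊥ bot_le (by simp) hw (by simp) {z} (by simpa using ⟨hz, hz1⟩)
  simpa using this

omit [Finite Ω] in
theorem T2.small (h : T2 G Ω) {P : Subgroup G} {z : G} (hP : ∀ g ∈ P, g * z = z * g) {x : Ω} (hx : z • x ≠ x) :
    Nat.card Ω - 1 ≤ P.index := by
  choose s h1 h2 using fun y : {y : Ω // y ≠ x} => h.two x (z • x) x y hx.symm y.2.symm
  have := card_le_relIndex P ⊤ s (fun _ => trivial) fun i j e => Subtype.ext (by
    have := congrArg (· • x) (hP _ e)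
    simp only [mul_smul, h2, h1, inv_smul_eq_iff.2 (h1 i).symm] at this
    rw [inv_smul_eq_iff.1 this, h2])
  rw [Subgroup.relIndex_top_right] at this
  rw [← Set.ncard_univ, ← Set.ncard_sdiff_singleton_of_mem (Set.mem_univ x),
    show Set.univ \ {x} = {y | y ≠ x} by ext; simp]
  exact this

end Cfsg.Agent.TT
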