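import Cfsg.Agent.TT.Base
import Cfsg.Agent.GLn.TwoTrans
import Cfsg.Agent.Forms.PermNorm

set_option autoImplicit false

/-! Fisher's inequality for two-transitive actions, and counts for conjugacy classes. -/

namespace Cfsg.Agent.TT
open MulAction Cfsg.Agent.CharLib

variable {G Ω : Type*} [Group G] [Finite G] [MulAction G Ω] [Finite Ω]

omit [Finite G] in
theorem inner_fix_one [Fintype G] (X : Type*) [Finite X] [Nonempty X] [MulAction G X] [IsPretransitive G X] :
    classInner (fun g : G => (Nat.card (fixedBy X g) : ℂ)) (fun _ => 1) = 1 := by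
  have h1 := congrArg (Nat.cast : ℕ → ℂ) (GLn.sum_card_fixedBy_of_trans G X)
  rw [Nat.cast_sum] at h1
  rw [classInner, inv_mul_eq_one₀ card_ne_zero, ← h1]
  simp

theorem T2.fisher (h : T2 G Ω) (X : Type*) [Finite X] [Nonempty X] [MulAction G X] [IsPretransitive G X] :
    (∀ (a : X) (x y : Ω), ∃ g : G, g • a = a ∧ g • x = y) ∨
      (Nat.card Ω ≤ Nat.card X ∧ (Nat.card Ω = Nat.card X → T2 G X)) := by
  have := Fintype.ofFinite G
  have := h.nt
  have := h.mult
  have : IsPretransitive G Ω := ⟨h.trans⟩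
  have h1 := GLn.isIrr_perm_sub_one G Ω
  have h2 := isChar_sub_of_inner_ne_zero (isChar_fixedBy (G := G) X) isIrr_one
    (by rw [inner_fix_one]; exact one_ne_zero)
  have key : ∀ (Y : Type _) [Finite Y] [Nonempty Y] [MulAction G Y] [IsPretransitive G Y],
      classInner ((fun g : G => (Nat.card (fixedBy X g) : ℂ)) - fun _ => 1)
        ((fun g : G => (Nat.card (fixedBy Y g) : ℂ)) - fun _ => 1) =
        Nat.card (orbitRel.Quotient G (X × Y)) - 1 := fun Y _ _ _ _ => by
    rw [CharLib.inner_sub_left, CharLib.inner_sub_right, CharLib.inner_sub_right, Forms.inner_fixedBy, inner_fix_one,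
      inner_char_comm isChar_one (isChar_fixedBy Y), inner_fix_one, inner_irr_self isIrr_one]
    ring
  by_cases h3 : Nat.card (orbitRel.Quotient G (X × Ω)) = 1
  · refine Or.inl fun a x y => ?_
    obtain ⟨g, hg⟩ := Quotient.exact ((Nat.card_eq_one_iff_unique.1 h3).1.elim
      (Quotient.mk (orbitRel G (X × Ω)) (a, y)) (Quotient.mk _ (a, x)))
    exact ⟨g, congrArg Prod.fst hg, congrArg Prod.snd hg⟩
  have h4 : classInner ((fun g : G => (Nat.card (fixedBy X g) : ℂ)) - fun _ => 1)
      (fun g : G => (Nat.card (fixedBy Ω g) : ℂ) - 1) ≠ 0 := by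
    refine (key Ω).trans_ne (sub_ne_zero.2 ?_)
    exact_mod_cast h3
  refine Or.inr ⟨?_, fun e => ?_⟩
  · have h5 := degree_le_of_inner_ne_zero h2 h1 h4
    simpa [fixedBy_one_eq_univ] using h5
  · have h5 := eq_of_inner_ne_zero_of_degree h2 h1 h4 (by simp [fixedBy_one_eq_univ, e])
    have h6 := inner_irr_self (h5 ▸ h1)
    have h7 : Nat.card (orbitRel.Quotient G (X × X)) = 2 := by
      have key' : classInner ((fun g : G => (Nat.card (fixedBy X g) : ℂ)) - fun _ => 1)
        ((fun g : G => (Nat.card (fixedBy X g) : ℂ)) - fun _ => 1) =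
        Nat.card (orbitRel.Quotient G (X × X)) - 1 := by
        rw [CharLib.inner_sub_left, CharLib.inner_sub_right, CharLib.inner_sub_right, Forms.inner_fixedBy, inner_fix_one,
          inner_char_comm isChar_one (isChar_fixedBy X), inner_fix_one, inner_irr_self isIrr_one]
        ring
      rw [key', sub_eq_iff_eq_add] at h6
      exact_mod_cast h6.trans (one_add_one_eq_two)
    refine ⟨fun a b c d h8 h9 => ?_, Finite.one_lt_card_iff_nontrivial.1 (e ▸ h.two_le)⟩
    obtain ⟨z, -, hz⟩ := (Nat.card_eq_two_iff' (Quotient.mk (orbitRel G (X × X)) (a, a))).1 h7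
    have k : ∀ u v : X, u ≠ v → Quotient.mk (orbitRel G (X × X)) (u, v) = z := fun u v huv => hz _ fun e => by
      obtain ⟨g, hg⟩ := Quotient.exact e
      exact huv ((congrArg Prod.fst hg).symm.trans (congrArg Prod.snd hg))
    obtain ⟨g, hg⟩ := Quotient.exact ((k c d h9).trans (k a b h8).symm)
    exact ⟨g, congrArg Prod.fst hg, congrArg Prod.snd hg⟩

theorem T2.fisher' (h : T2 G Ω) (P : Subgroup G) : (∀ x y : Ω, ∃ g ∈ P, g • x = y) ∨
    (Nat.card Ω ≤ P.index ∧ (Nat.card Ω = P.index → T2 G (G ⧸ P))) := by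
  refine (h.fisher (G ⧸ P)).imp_left fun h1 x y => ?_
  obtain ⟨g, h2, h3⟩ := h1 ((1 : G) : G ⧸ P) x y
  refine ⟨g, ?_, h3⟩
  rw [← stabilizer_quotient P]; exact h2

/-- the count for a normal subset -/
theorem T2.cls (h : T2 G Ω) (A : Set G) (hA : ∀ g : G, ∀ a ∈ A, g * a * g⁻¹ ∈ A) (x : Ω) :
    ∃ lam, (∀ y z : Ω, y ≠ z → {a ∈ A | a • y = z}.ncard = lam) ∧
      lam * (Nat.card Ω - 1) + {a ∈ A | a • x = x}.ncard = A.ncard := by
  classical
  have := h.nt
  have := Fintype.ofFinite Ω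
  obtain ⟨x', hx'⟩ := exists_ne x
  have k : ∀ y z : Ω, y ≠ z → {a ∈ A | a • y = z}.ncard = {a ∈ A | a • x = x'}.ncard := fun y z hyz => by
    obtain ⟨g, rfl, rfl⟩ := h.two y z x x' hyz hx'.symm
    refine Set.ncard_congr (fun a _ => g * a * g⁻¹) (fun a ha => ⟨hA g a ha.1, by simp [mul_smul, ha.2]⟩)
      (fun a b _ _ e => by simpa using e) fun b hb => ⟨g⁻¹ * b * g⁻¹⁻¹, ⟨hA _ b hb.1, by
        simp [mul_smul, hb.2]⟩, by group⟩
  refine ⟨_, k, ?_⟩
  have := Fintype.ofFinite G
  rw [Set.ncard_eq_toFinset_card' A, Finset.card_eq_sum_card_fiberwise (f := fun a => a • x) (t := Finset.univ)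
    (fun _ _ => by simp), ← Finset.sum_erase_add _ _ (Finset.mem_univ x), Finset.sum_congr rfl
    (g := fun _ => {a ∈ A | a • x = x'}.ncard) fun y hy => by
      rw [← k x y (Finset.ne_of_mem_erase hy).symm, Set.ncard_eq_toFinset_card']; congr 1; ext; simp]
  rw [Finset.sum_const, Finset.card_erase_of_mem (Finset.mem_univ _), Finset.card_univ, smul_eq_mul, mul_comm,
    Nat.card_eq_fintype_card, Set.ncard_eq_toFinset_card' {a ∈ A | a • x = x}]
  congr 2; ext; simp

end Cfsg.Agent.TT
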