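import Cfsg.Agent.TT.Cl
import Cfsg.Agent.SR.Orb
import Cfsg.Agent.Forms.OnePar
/-!
# Howlett's lemma for arbitrary rank: strict orbit inequality
-/
set_option autoImplicit false
set_option linter.unusedSectionVars false

namespace Cfsg.Agent.TT
open MulAction Finset Cfsg Cfsg.Agent.CharLib Cfsg.Agent.Chev
open Classical

section general
variable {G : Type*} [Group G] [Fintype G]

theorem fx_stab' {Ω : Type*} [MulAction G Ω] [Finite Ω] [IsPretransitive G Ω] (x : Ω) (g : G) :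
    fx ⊤ (stabilizer G x) g = Nat.card (fixedBy Ω g) := by
  rw [← fixedPointCharacter_eq, fixedPointCharacter]
  congr 1
  refine Nat.card_congr (Equiv.subtypeEquiv (Equiv.ofBijective (ofQuotientStabilizer G x)
    ⟨injective_ofQuotientStabilizer G x, fun y => ?_⟩) fun c => ?_)
  · obtain ⟨g, rfl⟩ := exists_smul_eq G x y
    exact ⟨g, rfl⟩
  · change g • c = c ↔ g • ofQuotientStabilizer G x c = ofQuotientStabilizer G x c
    rw [← ofQuotientStabilizer_smul, (injective_ofQuotientStabilizer G x).eq_iff]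

theorem fx_stab'' {Ω : Type*} [MulAction G Ω] [Finite Ω] [IsPretransitive G Ω] (x : Ω) :
    fx ⊤ (stabilizer G x) = fun g => (Nat.card (fixedBy Ω g) : ℂ) := funext (fx_stab' x)

theorem ip_ne_of_le {A P : Subgroup G} (h : A ≤ P) {χ : G → ℂ} (hχ : IsCharacter G χ)
    (h0 : ip P 1 χ ≠ 0) : ip A 1 χ ≠ 0 := by
  have hc : IsCharacter P fun g : P => χ g := isChar_comp P.subtype hχ
  rw [← inner_indL h 1 (isChar_classFun hc)]
  refine inner_ne_zero_of_common (isChar_indL h 1) hc (isIrr_unitsHom (1 : P →* ℂˣ)) ?_ ?_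
  · rw [inner_char_comm (isChar_indL h 1) (isChar_of_irr (isIrr_unitsHom 1)), indL_one]
    have := ip_fx h 1
    rw [if_pos (by simp)] at this
    exact fun e => one_ne_zero (this.symm.trans e)
  · rwa [inner_char_comm hc (isChar_of_irr (isIrr_unitsHom 1))]

theorem exists_inv {X Y : Type*} [MulAction G X] [MulAction G Y] [Fintype X] [Fintype Y]
    (hs : ∀ y y' : Y, ∃ g : G, g • y = y' ∧ g • y' = y)
    (h2 : Module.finrank ℝ (SR.InvM G X X) ≤ Module.finrank ℝ (SR.InvM G X Y)) :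
    ∃ N ∈ SR.InvM G X Y, ∃ M : Matrix X Y ℝ, N * M.transpose = 1 := by
  obtain ⟨M, hM, h⟩ := SR.exists_gen (X := X) hs
  let Φ : SR.InvM G X Y →ₗ[ℝ] SR.InvM G X X :=
    { toFun := fun N => ⟨N.1 * M.transpose, SR.InvM.mul N.2 (SR.InvM.tr hM)⟩
      map_add' := fun N N' => Subtype.ext (Matrix.add_mul _ _ _)
      map_smul' := fun c N => Subtype.ext (Matrix.smul_mul _ _ _) }
  have hΦ : Function.Injective Φ := by
    rw [injective_iff_map_eq_zero]
    exact fun N hN => Subtype.ext (h N N.2 (congrArg Subtype.val hN))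
  obtain ⟨N, hN⟩ := (LinearMap.injective_iff_surjective_of_finrank_eq_finrank
    (le_antisymm (LinearMap.finrank_le_finrank_of_injective hΦ) h2)).1 hΦ ⟨1, SR.InvM.one⟩
  exact ⟨N, N.2, M, congrArg Subtype.val hN⟩

theorem inner_of_inv {X Y : Type*} [MulAction G X] [MulAction G Y] [Fintype X] [Fintype Y]
    {N M : Matrix X Y ℝ} (hN : N ∈ SR.InvM G X Y) (e : N * M.transpose = 1) {χ : G → ℂ}
    (hχ : IsIrrCharacter G χ) (h : classInner (fun g : G => (Nat.card (fixedBy Y g) : ℂ)) χ = 0) :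
    classInner (fun g : G => (Nat.card (fixedBy X g) : ℂ)) χ = 0 := by
  have h1 := Forms.sum_char_smul_eq_zero (permRep (toPermHom G Y)) hχ (by
    rw [← h]; congr 1; exact funext fun g => character_permRep _ g)
  have h2 : ∀ x y, ∑ g : G, χ g⁻¹ * (N (g • x) y : ℂ) = 0 := fun x y => by
    have := congrFun (LinearMap.congr_fun h1 fun z => (N x z : ℂ)) y
    simp only [LinearMap.sum_apply, Finset.sum_apply, LinearMap.smul_apply, Pi.smul_apply, smul_eq_mul,
      LinearMap.zero_apply, Pi.zero_apply] at this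
    rw [← this]
    refine sum_congr rfl fun g _ => ?_
    rw [← smul_inv_smul g y, hN g, smul_inv_smul]
    rfl
  have h3 : ∀ g : G, (Nat.card (fixedBy X g) : ℂ) = ∑ x, ∑ y, (N (g • x) y : ℂ) * M x y := fun g => by
    rw [show (Nat.card (fixedBy X g) : ℂ) = Nat.card {x // g • x = x} from rfl, card_ite]
    refine sum_congr rfl fun x _ => ?_
    have := congrArg (fun r : ℝ => (r : ℂ)) (congrFun (congrFun e (g • x)) x)
    simp only [Matrix.mul_apply, Matrix.transpose_apply, Matrix.one_apply] at this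
    push_cast at this
    rw [this]
    split_ifs <;> simp
  rw [inner_eq_inv (isChar_of_irr hχ), mul_eq_zero]
  refine Or.inr ?_
  simp only [h3, sum_mul]
  rw [sum_comm]
  refine sum_eq_zero fun x _ => ?_
  rw [sum_comm]
  refine sum_eq_zero fun y _ => ?_
  rw [← mul_zero (M x y : ℂ), ← h2 x y, mul_sum]
  exact sum_congr rfl fun g _ => by ring

end general

namespace SB
variable {G : Type*} [Group G] [Fintype G] {I : Type*} [Fintype I] {S : SB G I}

theorem not_sub {p : ℕ} [Fact p.Prime] (hp : IsPGroup p S.U) (gen : ⨆ i, S.X i = S.U)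
    {Ω : Type*} [MulAction G Ω] [Finite Ω] [IsPretransitive G Ω] (hf : ∀ x : Ω, ∃ u ∈ S.U, u • x ≠ x) (x : Ω)
    (hB : ∀ χ, IsIrrCharacter G χ → classInner (fx ⊤ (stabilizer G x)) χ ≠ 0 → ip (S.P ∅) 1 χ ≠ 0) :
    False := by
  have hπ : IsCharacter G (fx ⊤ (stabilizer G x)) := by
    rw [fx_stab'' x]; exact isChar_fixedBy Ω
  have e1 : ∀ A : Subgroup G, ip A 1 (fun g => fx ⊤ (stabilizer G x) g - 1) =
      Nat.card (DoubleCoset.Quotient (A : Set G) (stabilizer G x)) - 1 := fun A => by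
    rw [ip_sub_one, mack', if_pos rfl]
    congr 2
    exact Nat.card_congr (Equiv.subtypeUnivEquiv fun _ _ _ => rfl)
  have lin : ∀ (A : Subgroup G) (l : A →* ℂˣ), ip A l (fx ⊤ (stabilizer G x)) = ∑ φ : IrrCharacter G,
      (starRingEnd ℂ) (classInner (fx ⊤ (stabilizer G x)) φ) * ip A l φ := fun A l => by
    conv_lhs => rw [isChar_eq_sum_inner hπ]
    rw [ip, show (fun a : A => (∑ φ : IrrCharacter G, classInner (fx ⊤ (stabilizer G x)) φ • (φ : G → ℂ)) a) =
      ∑ φ : IrrCharacter G, classInner (fx ⊤ (stabilizer G x)) φ • fun a : A => (φ : G → ℂ) a from by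
        ext a; simp, inner_sum_right]
    exact sum_congr rfl fun φ _ => CharLib.inner_smul_right _ _ _
  have one : ∀ (A : Subgroup G) (l : A →* ℂˣ), ip A l (fun _ => 1) = if l = 1 then 1 else 0 := fun A l => by
    have := ip_sub_one A l (fun _ => 1)
    rw [eq_comm, sub_eq_iff_eq_add] at this
    rw [this, ip]
    simp [classInner]
  have e0 : ∀ l : S.U →* ℂˣ, ip S.U l (fun g => fx ⊤ (stabilizer G x) g - 1) =
      ∑ K ∈ (supp l).powerset, (-1 : ℂ) ^ #K *
        ip (S.P (K : Set I)) 1 (fun g => fx ⊤ (stabilizer G x) g - 1) := fun l => by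
    have a1 := ip_eq gen (isIrr_unitsHom (1 : G →* ℂˣ)) (by
      rw [show (fun g : G => ((1 : G →* ℂˣ) g : ℂ)) = fun _ => 1 from rfl, one, if_pos rfl]
      exact one_ne_zero) l
    rw [show (fun g : G => ((1 : G →* ℂˣ) g : ℂ)) = fun _ => 1 from rfl] at a1
    simp only [one] at a1
    simp only [ip_sub_one, mul_sub, sum_sub_distrib]
    rw [a1]
    congr 1
    simp only [lin, mul_sum]
    rw [sum_comm]
    refine sum_congr rfl fun φ _ => ?_
    by_cases h0 : classInner (fx ⊤ (stabilizer G x)) φ = 0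
    · simp [h0]
    · rw [ip_eq gen φ.2 (hB _ φ.2 h0) l, mul_sum]
      exact sum_congr rfl fun K _ => by ring
  have := Fintype.ofFinite (S.U →* ℂˣ)
  have : Finite (DoubleCoset.Quotient (S.U : Set G) (stabilizer G x)) := Quotient.finite _
  have := Fintype.ofFinite (DoubleCoset.Quotient (S.U : Set G) (stabilizer G x))
  have e2 := sum_congr (s₁ := univ) rfl fun l _ => e0 l
  have m1 : ∑ l : S.U →* ℂˣ, ip S.U l (fx ⊤ (stabilizer G x)) ∈ AddSubgroup.zmultiples (p : ℂ) := by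
    simp only [mack', card_ite]
    rw [sum_comm]
    refine sum_mem fun i _ => ?_
    rw [← card_ite]
    refine dvd_card_lin hp (K := (stabilizer G (i.out • x)).subgroupOf S.U) (fun e => ?_) _
      fun l0 h0 l hl a ha => ?_
    · obtain ⟨u, hu, h1⟩ := hf (i.out • x)
      exact h1 (e.ge (Subgroup.mem_top (⟨u, hu⟩ : S.U)))
    · rw [MonoidHom.mul_apply, hl a ha, h0 a, one_mul]
      rw [Subgroup.mem_subgroupOf, mem_stabilizer_iff, ← inv_smul_eq_iff]
      simpa [mul_smul, inv_smul_eq_iff] using ha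
  have m2 : ∑ l : S.U →* ℂˣ, ∑ K ∈ (supp l).powerset, (-1 : ℂ) ^ #K *
      ip (S.P (K : Set I)) 1 (fun g => fx ⊤ (stabilizer G x) g - 1) ∈ AddSubgroup.zmultiples (p : ℂ) := by
    rw [sum_comm' (t' := univ) (s' := fun K => {l | K ⊆ supp l}) (by simp)]
    refine sum_mem fun K _ => ?_
    rw [sum_const, e1]
    by_cases hK : K = univ
    · rw [hK, coe_univ, P_univ, (Nat.card_eq_one_iff_unique (α := DoubleCoset.Quotient
        ((⊤ : Subgroup G) : Set G) (stabilizer G x))).2 ⟨⟨fun a b => ?_⟩, ⟨Quotient.mk'' 1⟩⟩]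
      · simp
      · rw [← Quotient.out_eq' a, ← Quotient.out_eq' b]
        exact Quotient.sound' (DoubleCoset.rel_iff.2 ⟨b.out * a.out⁻¹, trivial, 1, one_mem _, by simp⟩)
    obtain ⟨j, hj⟩ : ∃ j, j ∉ K := by simpa [eq_univ_iff_forall] using hK
    have := dvd_card_lin hp (K := (S.V j).subgroupOf S.U) (fun e => ?_) (fun l => K ⊆ supp l)
      fun l0 h0 l hl k hk => ?_
    · convert AddSubgroup.zsmul_mem _ this ((-1) ^ #K *
        (Nat.card (DoubleCoset.Quotient (S.P (K : Set I) : Set G) (stabilizer G x)) - 1)) using 1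
      rw [Nat.card_eq_fintype_card (α := {l // _}), Fintype.card_subtype]
      simp [mul_comm]
    · obtain ⟨z, hz, h1⟩ := exists_X (S := S) j
      exact h1 (X_inf_V j hz (e.ge (Subgroup.mem_top (⟨z, S.X_le j hz⟩ : S.U))))
    · refine mem_filter.2 ⟨mem_univ _, fun e => (mem_filter.1 (hl hk)).2 fun u hu => ?_⟩
      rw [← e u hu, MonoidHom.mul_apply, h0 u (S.X_V j k (fun e => hj (e ▸ hk)) hu), one_mul]
  rw [← e2] at m2
  simp only [ip_sub_one, sum_sub_distrib, sum_ite_eq', mem_univ, if_true] at m2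
  obtain ⟨k, hk⟩ := sub_mem m1 m2
  have : (p : ℤ) ∣ 1 := ⟨k, by
    have : ((p * k : ℤ) : ℂ) = (1 : ℤ) := by simpa [mul_comm] using hk
    exact (Int.cast_injective this).symm⟩
  exact (Fact.out : p.Prime).not_dvd_one (Int.natCast_dvd_natCast.1 this)

end SB

/-- **Strict orbit inequality.** -/
theorem SB.orb_lt {G : Type*} [Group G] [Finite G] {I : Type*} [Finite I] (S : SB G I) {p : ℕ} [Fact p.Prime]
    (hp : IsPGroup p S.U) (gen : ⨆ i, S.X i = S.U) {X Y : Type*} [MulAction G X] [MulAction G Y]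
    [Finite X] [Finite Y] [IsPretransitive G X] (hf : ∀ x : X, ∃ u ∈ S.U, u • x ≠ x) (x : X) (y : Y)
    (hy : S.P ∅ ≤ stabilizer G y) (hs : ∀ y y' : Y, ∃ g : G, g • y = y' ∧ g • y' = y) :
    Nat.card (orbitRel.Quotient (stabilizer G x) Y) < Nat.card (orbitRel.Quotient (stabilizer G x) X) := by
  have := Fintype.ofFinite G
  have := Fintype.ofFinite I
  have := Fintype.ofFinite X
  have := Fintype.ofFinite Y
  have : IsPretransitive G Y := ⟨fun y y' => (hs y y').imp fun _ h => h.1⟩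
  by_contra h
  rw [not_lt, ← SR.finrank_invM, ← SR.finrank_invM] at h
  obtain ⟨N, hN, M, e⟩ := exists_inv hs h
  refine SB.not_sub hp gen hf x fun χ hχ h0 => ip_ne_of_le hy (isChar_of_irr hχ) fun h1 => h0 ?_
  rw [fx_stab'' x]
  refine inner_of_inv hN e hχ ?_
  rw [← fx_stab'' y, ← ind_one, inner_indHom_left _ _ (isChar_classFun (isChar_of_irr hχ))]
  exact h1

section cl
open Subgroup Module Cfsg.Agent.RGD Cfsg.Agent.RG Cfsg.Agent.RG.RC Cfsg.Agent.Polar Cfsg.Agent.Polar.PQ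
open Cfsg.Agent.Cl

variable {F : Type*} [Field F] {τ : F →+* F} {π : FP F τ}
variable {V : Type*} [AddCommGroup V] [Module F V] {P : PQ π V}
variable {m : ℕ} {sh : Bool} (Φ : Frame P m sh)

theorem eg_Fl (hm : sh = false → 1 ≤ m) {u k : P.EG} (hu : u ∈ US (Φ.X (egSys P)) (bRC hm).Pos)
    (hk : k ∈ (bRC hm).H0 (Φ.X (egSys P))) {j : ℕ} (hj : j ≤ m + 1) {z : V} (hz : z ∈ Φ.Fl j) :
    (u * k).1 • z ∈ Φ.Fl j := by
  have hu : ∀ a : Ix m, (a : ℕ) ≤ m → u.1 • Φ.v a - Φ.v a ∈ Φ.Fl a :=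
    (Φ.pos_le_Tri hm ((Φ.isOver (egSys P)).mem_US hu)).1
  have hk : ∀ a, ∃ t : F, t ≠ 0 ∧ k.1 • Φ.v a = t • Φ.v a := Φ.H0_le_Dg _ hm hk
  induction hz using Submodule.span_induction with
  | mem x hx =>
    obtain ⟨a, ha, rfl⟩ := hx
    have ha : (a : ℕ) < j := ha
    obtain ⟨t, -, e⟩ := hk a
    have h1 : Φ.Fl a ≤ Φ.Fl j := Submodule.span_mono (Set.image_mono fun b hb => lt_trans hb ha)
    have h2 := add_mem (h1 (hu a (by omega))) (Φ.v_mem_Fl ha)
    rw [sub_add_cancel] at h2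
    rw [Subgroup.coe_mul, mul_smul, e, act_smul]
    exact Submodule.smul_mem _ _ h2
  | zero => simp
  | add x y _ _ hx hy => rw [smul_add]; exact add_mem hx hy
  | smul a x _ hx => rw [act_smul]; exact Submodule.smul_mem _ _ hx

/-- **Strict orbit inequality for classical groups**; `y` is any point fixed by the stabiliser of the
totally singular subspace `Φ.Fl j`. -/
theorem cl_orb_lt [Finite F] [Finite V] (hP : P.ND)
    (hmin : ∀ c ∈ π.Λ, ∃ b, c = b - π.ε * τ b) (h1 : 1 ≤ m) {X Y : Type*} [MulAction P.EG X]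
    [MulAction P.EG Y] [Finite X] [Finite Y] [IsPretransitive P.EG X] (x : X) (y : Y)
    (hy : ∀ g : P.EG, (∀ j ≤ m + 1, ∀ z ∈ Φ.Fl j, g.1 • z ∈ Φ.Fl j) → g • y = y)
    (hs : ∀ y y' : Y, ∃ g : P.EG, g • y = y' ∧ g • y' = y) :
    (∃ e, P.Sing e ∧ e ≠ 0 ∧ ∀ u : P.EG, u.1 ∈ P.U e → u • x = x) ∨
    Nat.card (orbitRel.Quotient (stabilizer P.EG x) Y) < Nat.card (orbitRel.Quotient (stabilizer P.EG x) X) := by
  have hm : sh = false → 1 ≤ m := fun _ => h1
  obtain ⟨p, _⟩ := CharP.exists F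
  have : Fact p.Prime := ⟨CharP.char_is_prime F p⟩
  by_cases hf : ∀ x : X, ∃ u ∈ US (Φ.X (egSys P)) (bRC hm).Pos, u • x ≠ x
  · refine Or.inr (SB.orb_lt (rSB (Φ.isRGD (egSys P) hm) (eg_top Φ hP) (b_inj hm)) (p := p) (eg_p Φ hm)
      (eg_gen Φ hm hP hmin) hf x y (fun g hg => ?_) hs)
    obtain ⟨u, hu, k, hk, rfl⟩ := SB.mem_B.1 hg
    exact hy _ fun j hj z hz => eg_Fl Φ hm hu hk hj hz
  push Not at hf
  obtain ⟨x', hx⟩ := hf
  obtain ⟨g, rfl⟩ := exists_smul_eq P.EG x' x
  refine Or.inl ⟨g.1 • Φ.v 0, (Φ.sing 0).act _, fun e => (Φ.hyp 0).left_ne_zero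
    (by rw [← inv_smul_smul g.1 (Φ.v 0), e, smul_zero]), fun u hu => ?_⟩
  have h2 := conj_mem_U (g := g.1⁻¹) hu
  rw [inv_smul_smul] at h2
  have := hx (g⁻¹ * u * g) (eg_U Φ hm hP hmin (by simpa using h2))
  rwa [mul_smul, mul_smul, inv_smul_eq_iff] at this

/-- a proper subgroup containing `U e` fixes a totally singular subspace -/
theorem fix_ts (hP : P.ND) {H : Subgroup P.Iso} (hne : ¬ P.EG ≤ H) {e : V} (he : P.Sing e)
    (hU : P.U e ≤ H) : ∃ W : Submodule F V, e ∈ W ∧ (∀ w ∈ W, P.Sing w) ∧ (∀ a ∈ W, ∀ b ∈ W, P.B a b = 0) ∧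
      ∀ g ∈ H, ∀ w ∈ W, g • w ∈ W := by
  have k1 : ∀ g ∈ H, ∀ g' ∈ H, P.B (g • e) (g' • e) = 0 := fun g hg g' hg' => by
    by_contra h
    refine hne ((hyp_of_ne (he.act g) (he.act g') h).EG_le hP (U_le_of_smul hU hg) ?_)
    rw [U_smul (by simpa using h)]
    exact U_le_of_smul hU hg'
  have k2 : ∀ a ∈ Submodule.span F {x | ∃ g ∈ H, x = g • e}, ∀ b ∈ Submodule.span F {x | ∃ g ∈ H, x = g • e},
      P.B a b = 0 := fun a ha b hb => by
    induction ha, hb using Submodule.span_induction₂ with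
    | mem_mem x y hx hy =>
      obtain ⟨g, hg, rfl⟩ := hx
      obtain ⟨g', hg', rfl⟩ := hy
      exact k1 g hg g' hg'
    | zero_left => simp
    | zero_right => simp
    | add_left x y z _ _ _ h h' => simp [h, h']
    | add_right x y z _ _ _ h h' => simp [h, h']
    | smul_left r x y _ _ h => simp [h]
    | smul_right r x y _ _ h => simp [h]
  refine ⟨Submodule.span F {x | ∃ g ∈ H, x = g • e}, Submodule.subset_span ⟨1, one_mem _, by simp⟩,
    fun w hw => ?_, k2, fun g hg w hw => ?_⟩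
  · induction hw using Submodule.span_induction with
    | mem x hx => obtain ⟨g, -, rfl⟩ := hx; exact he.act g
    | zero => exact sing_zero
    | add x y hx hy h h' => exact h.add h' (k2 x hx y hy)
    | smul a x _ h => exact h.smul a
  · induction hw using Submodule.span_induction with
    | mem x hx =>
      obtain ⟨g', hg', rfl⟩ := hx
      exact Submodule.subset_span ⟨g * g', mul_mem hg hg', (mul_smul _ _ _).symm⟩
    | zero => simp
    | add x y _ _ h h' => rw [smul_add]; exact add_mem h h'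
    | smul a x _ h => rw [act_smul]; exact Submodule.smul_mem _ _ h

end cl

end Cfsg.Agent.TT
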