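import Cfsg.Agent.TT.Base
import Cfsg.Agent.SR.Orb
/-!
# Two two-transitive actions of the same group
-/
set_option autoImplicit false
set_option linter.unusedSectionVars false

namespace Cfsg.Agent.TT
open MulAction

variable {G Ω Δ : Type*} [Group G] [Finite G] [MulAction G Ω] [Finite Ω] [MulAction G Δ] [Finite Δ]

theorem T2.r1_swap (h : T2 G Ω) (y y' : Ω) : ∃ g : G, g • y = y' ∧ g • y' = y := by
  by_cases e : y = y'
  · exact ⟨1, by simp [e]⟩
  · exact h.two y y' y' y e (Ne.symm e)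

theorem T2.r1_orb (h : T2 G Ω) (x : Ω) :
    Nat.card (orbitRel.Quotient (stabilizer G x) Ω) ≤ 2 := by
  classical
  have := SR.card_orb_le (H := stabilizer G x) (Y := Ω) (fun y => decide (y = x)) fun y y' e => by
    by_cases h1 : y = x
    · have h2 : y' = x := by simpa [h1] using e
      exact ⟨1, by simp [h1, h2]⟩
    · have h2 : y' ≠ x := by simpa [h1] using e
      obtain ⟨g, g1, g2⟩ := h.two x y x y' (Ne.symm h1) h2.symm
      exact ⟨⟨g, g1⟩, g2⟩
  simpa using this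

/-- Two two-transitive actions have the same degree, or a point stabiliser of one is transitive
on the other. -/
theorem rank_one (h : T2 G Ω) (h' : T2 G Δ) : Nat.card Ω = Nat.card Δ ∨
    ∀ (x : Ω) (a b : Δ), ∃ g : G, g • x = x ∧ g • a = b := by
  haveI : IsPretransitive G Ω := ⟨h.trans⟩
  by_cases hc : ∃ x : Ω, 2 ≤ Nat.card (orbitRel.Quotient (stabilizer G x) Δ)
  · obtain ⟨x, hx⟩ := hc
    have := h'.nt
    obtain ⟨y⟩ : Nonempty Δ := inferInstance
    exact Or.inl (SR.card_eq_of_orb x y h'.r1_swap ((h.r1_orb x).trans hx) ((h'.r1_orb y).trans hx))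
  · refine Or.inr fun x a b => ?_
    have h1 : Nat.card (orbitRel.Quotient (stabilizer G x) Δ) ≤ 1 := by
      by_contra h2
      exact hc ⟨x, by omega⟩
    have := Finite.card_le_one_iff_subsingleton.1 h1
    have h2 : (Quotient.mk (orbitRel (stabilizer G x) Δ) b :
      orbitRel.Quotient (stabilizer G x) Δ) = Quotient.mk _ a := Subsingleton.elim _ _
    obtain ⟨g, hg⟩ := Quotient.exact h2
    exact ⟨g, g.2, hg⟩

theorem r1_flip (h : T2 G Ω) (ht : ∀ (x : Ω) (a b : Δ), ∃ g : G, g • x = x ∧ g • a = b) (a : Δ)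
    (x y : Ω) : ∃ g : G, g • a = a ∧ g • x = y := by
  obtain ⟨g, rfl⟩ := h.trans x y
  obtain ⟨k, h1, h2⟩ := ht (g • x) (g • a) a
  exact ⟨k * g, by rw [mul_smul, h2], by rw [mul_smul, h1]⟩

theorem r1_dvd [Nonempty Δ] {x : Ω} (ht : ∀ a b : Δ, ∃ g : G, g • x = x ∧ g • a = b) :
    Nat.card Δ ∣ Nat.card (stabilizer G x) := by
  haveI : IsPretransitive (stabilizer G x) Δ := ⟨fun a b => by
    obtain ⟨g, g1, g2⟩ := ht a b
    exact ⟨⟨g, g1⟩, g2⟩⟩
  obtain ⟨a⟩ := ‹Nonempty Δ›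
  rw [← MulAction.index_stabilizer_of_transitive (stabilizer G x) a]
  exact Subgroup.index_dvd_card _

/-- if a subgroup `B` normalising `A` is transitive, all points are fixed by the same number of
elements of `A` -/
theorem r1_const {A : Set G} {B : Subgroup G} (hB : ∀ g ∈ B, ∀ a ∈ A, g * a * g⁻¹ ∈ A)
    (ht : ∀ x y : Ω, ∃ g ∈ B, g • x = y) (x y : Ω) :
    {a ∈ A | a • x = x}.ncard = {a ∈ A | a • y = y}.ncard := by
  obtain ⟨g, hg, rfl⟩ := ht x y
  refine Set.ncard_congr (fun a _ => g * a * g⁻¹) ?_ ?_ ?_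
  · rintro a ⟨h1, h2⟩
    exact ⟨hB g hg a h1, by rw [mul_smul, mul_smul, inv_smul_smul, h2]⟩
  · intro a b _ _ e
    simpa using e
  · rintro b ⟨h1, h2⟩
    refine ⟨g⁻¹ * b * g⁻¹⁻¹, ⟨hB _ (B.inv_mem hg) b h1, ?_⟩, by group⟩
    rw [inv_inv, mul_smul, mul_smul, h2, inv_smul_smul]

end Cfsg.Agent.TT
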