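import Cfsg.Agent.TT.How
import Cfsg.Agent.R3.Base
import Cfsg.Agent.Polar.MinU
/-!
# Totally singular subspaces of unitary spaces are swapped in `SU`; Howlett's bound
-/
set_option autoImplicit false
set_option linter.unusedSectionVars false

namespace Cfsg.Agent.TT
open MulAction Module Submodule Cfsg.Agent.Polar Cfsg.Agent.Polar.PQ Cfsg.Agent.Cl Cfsg.Agent.Forms

section gen
variable {F : Type*} [Field F] {τ : F →+* F} {π : FP F τ}
variable {V : Type*} [AddCommGroup V] [Module F V] {P : PQ π V}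

theorem Bsup0 {A B : Submodule F V} {u : V} (hA : ∀ y ∈ A, P.B y u = 0)
    (hB : ∀ y ∈ B, P.B y u = 0) : ∀ y ∈ A ⊔ B, P.B y u = 0 := fun y hy => by
  obtain ⟨a, ha, b, hb, rfl⟩ := mem_sup.1 hy
  simp [hA a ha, hB b hb]

theorem Bspan0 {a u : V} (h : P.B a u = 0) : ∀ y ∈ F ∙ a, P.B y u = 0 := fun y hy => by
  obtain ⟨c, rfl⟩ := mem_span_singleton.1 hy
  simp [h]

theorem hsplit {A : Submodule F V} {a b : V} (ha : a ∈ A)
    (h : P.B a b ≠ 0) : A ⊓ P.perp {b} ⊔ F ∙ a = A := by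
  refine le_antisymm (sup_le inf_le_left ((span_singleton_le_iff_mem _ _).2 ha)) fun x hx => ?_
  refine mem_sup.2 ⟨x - (P.B x b / P.B a b) • a, ⟨A.sub_mem hx (A.smul_mem _ ha),
    mem_perp_singleton.2 ?_⟩, _, mem_span_singleton.2 ⟨_, rfl⟩, sub_add_cancel _ _⟩
  simp [div_mul_cancel₀ _ h]

/-- a singular vector dual to `a` and orthogonal to `Y` -/
theorem exists_dual [FiniteDimensional F V] (hP : P.ND) (Y : Submodule F V) {a : V} (hs : P.Sing a)
    (ha : a ∉ Y) (hYa : ∀ y ∈ Y, P.B y a = 0) : ∃ a', P.Sing a' ∧ P.B a a' = 1 ∧ ∀ y ∈ Y, P.B y a' = 0 := by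
  obtain ⟨φ, h1, h2⟩ := Submodule.exists_le_ker_of_notMem ha
  obtain ⟨z, hz⟩ := hP.rep φ
  obtain ⟨f, hf, s, t, rfl⟩ := exists_hyp_of_ne hs (y := z) (by rw [hz]; exact h1)
  exact ⟨_, hf.right, hf.pair, fun y hy => by
    simp [hYa y hy, hz, show φ y = 0 from h2 hy]⟩

theorem shear [FiniteDimensional F V] (hP : P.ND) (Y : Submodule F V) {a b : V} (sa : P.Sing a)
    (sb : P.Sing b) (hab : P.B a b = 0) (ha : a ∉ Y ⊔ F ∙ b) (hYa : ∀ y ∈ Y, P.B y a = 0)
    (hYb : ∀ y ∈ Y, P.B y b = 0) (t : F) :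
    ∃ w ∈ P.EG, (∀ y ∈ Y, w • y = y) ∧ w • a = a + t • b ∧ w • b = b := by
  obtain ⟨a', s, h1, h2⟩ := exists_dual hP _ sa ha (Bsup0 hYa (Bspan0 (B_swap_zero hab)))
  have h3 := h2 b (mem_sup_right (mem_span_singleton_self b))
  have o : P.EOk a' (t • b) 0 := eOk_smul ⟨s, h3, sb⟩ t
  refine ⟨_, eich_mem_EG a' (t • b) 0, fun y hy => o.eich_smul_of_perp₂ (h2 y (mem_sup_left hy))
    (by simp [hYb y hy]), ?_, o.eich_smul_of_perp₂ h3 (by simp [sb.B_self])⟩
  simp [o.eich_smul, h1, hab]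

end gen

variable {F : Type*} [Field F] [Fintype F] {q : ℕ} {hF : Fintype.card F = q ^ 2}
variable {V : Type*} [AddCommGroup V] [Module F V] {P : PQ (uFP hF) V}

theorem u_exists_w [FiniteDimensional F V] (hP : P.ND) (Y : Submodule F V) {a b : V} (sa : P.Sing a)
    (sb : P.Sing b) (ha : a ∉ Y ⊔ F ∙ b) (hb : b ∉ Y ⊔ F ∙ a) (hYa : ∀ y ∈ Y, P.B y a = 0)
    (hYb : ∀ y ∈ Y, P.B y b = 0) :
    ∃ w ∈ P.EG, ∃ s t : F, s ≠ 0 ∧ t ≠ 0 ∧ (∀ y ∈ Y, w • y = y) ∧ w • a = s • b ∧ w • b = t • a := by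
  by_cases hab : P.B a b = 0
  · obtain ⟨u, hu, u1, u2, u3⟩ := shear hP Y sa sb hab ha hYa hYb 1
    obtain ⟨v, hv, v1, v2, v3⟩ := shear hP Y sb sa (B_swap_zero hab) hb hYb hYa (-1)
    refine ⟨u * v * u, mul_mem (mul_mem hu hv) hu, 1, -1, one_ne_zero, by simp, fun y hy => ?_, ?_, ?_⟩
    · rw [mul_smul, mul_smul, u1 y hy, v1 y hy, u1 y hy]
    · rw [mul_smul, mul_smul, u2, smul_add, act_smul, v2, v3, one_smul, one_smul,
        show a + (b + (-1 : F) • a) = b by module, u3]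
    · rw [mul_smul, mul_smul, u3, v2, smul_add, act_smul, u2, u3]; module
  obtain ⟨c, hc, c0⟩ := u_exists_lam hF
  have hba := B_swap_ne hab
  obtain ⟨d, hd, hl⟩ : ∃ d, d * (c * P.B a b * P.B b a) = 1 ∧ -d ∈ (uFP hF).Λ := by
    refine ⟨_, inv_mul_cancel₀ (mul_ne_zero (mul_ne_zero c0 hab) hba), neg_mem ?_⟩
    rw [mem_uFP_lam, map_inv₀, map_mul, map_mul, u_lam_tau hc, tau_B, tau_B, uFP_eps, one_mul, one_mul,
      show -c * P.B b a * P.B a b = -(c * P.B a b * P.B b a) by ring, inv_neg, add_neg_cancel]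
  have o1 := EOk.lam sb hc
  have o2 := EOk.lam sa hl
  have u2 : P.eich b 0 c • a = a - (c * P.B a b) • b := by simp [o1.eich_smul, uFP_eps]
  have v2 : P.eich a 0 (-d) • b = b + (d * P.B b a) • a := by
    simp [o2.eich_smul, uFP_eps]
  refine ⟨P.eich b 0 c * P.eich a 0 (-d) * P.eich b 0 c, mul_mem (mul_mem (eich_mem_EG _ _ _) (eich_mem_EG _ _ _))
    (eich_mem_EG _ _ _), -(c * P.B a b), d * P.B b a,
    neg_ne_zero.2 (mul_ne_zero c0 hab), mul_ne_zero (left_ne_zero_of_mul_eq_one hd) hba, fun y hy => ?_, ?_, ?_⟩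
  · rw [mul_smul, mul_smul, o1.eich_smul_of_perp₂ (hYb y hy) (by simp), o2.eich_smul_of_perp₂ (hYa y hy) (by simp),
      o1.eich_smul_of_perp₂ (hYb y hy) (by simp)]
  · rw [mul_smul, mul_smul, u2, smul_sub, act_smul, v2, o2.eich_smul_e,
      show a - (c * P.B a b) • (b + (d * P.B b a) • a) = -(c * P.B a b) • b by
        linear_combination (norm := module) (-hd) • a, act_smul, o1.eich_smul_e]
  · rw [mul_smul, mul_smul, o1.eich_smul_e, v2, smul_add, act_smul, u2, o1.eich_smul_e]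
    linear_combination (norm := module) (-hd) • b

theorem u_swap_aux [FiniteDimensional F V] (hP : P.ND) (n : ℕ) : ∀ A B X : Submodule F V, P.TotSing A →
    P.TotSing B → finrank F A = n → finrank F B = n → Disjoint X (A ⊔ B) →
    (∀ x ∈ X, ∀ y ∈ A ⊔ B, P.B x y = 0) →
    ∃ g ∈ P.EG, (∀ x ∈ X, g • x = x) ∧ (∀ x ∈ A, g • x ∈ B) ∧ ∀ x ∈ B, g • x ∈ A := by
  induction n with
  | zero =>
    intro A B X _ _ hA hB _ _
    rw [R3.eq_bot_of_dm hA, R3.eq_bot_of_dm hB]
    exact ⟨1, one_mem _, fun x _ => one_smul _ x, by simp, by simp⟩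
  | succ n ih =>
    intro A B X tA tB hA hB hd hp
    by_cases hAB : A = B
    · exact ⟨1, one_mem _, fun x _ => one_smul _ x, by simp [hAB], by simp [hAB]⟩
    have step : ∀ (A' B' : Submodule F V) (a b : V), A' ⊔ F ∙ a = A → B' ⊔ F ∙ b = B →
        a ∉ A' ⊔ B ⊔ X → b ∉ A ⊔ B' ⊔ X → (∀ y ∈ A', P.B y b = 0) → (∀ y ∈ B', P.B y a = 0) →
        ∃ g ∈ P.EG, (∀ x ∈ X, g • x = x) ∧ (∀ x ∈ A, g • x ∈ B) ∧ ∀ x ∈ B, g • x ∈ A := by
      intro A' B' a b eA eB ha hb hAb hBa
      have lA : A' ≤ A := eA ▸ le_sup_left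
      have lB : B' ≤ B := eB ▸ le_sup_left
      have aA : a ∈ A := eA ▸ mem_sup_right (mem_span_singleton_self a)
      have bB : b ∈ B := eB ▸ mem_sup_right (mem_span_singleton_self b)
      have sa : (F ∙ a) ≤ A := (span_singleton_le_iff_mem _ _).2 aA
      have sb : (F ∙ b) ≤ B := (span_singleton_le_iff_mem _ _).2 bB
      have dA : finrank F A' = n := by
        have := R3.dm_sup_span (A := A') (v := a) fun h => ha (mem_sup_left (mem_sup_left h))
        rw [eA] at this; exact Nat.succ_injective (this.symm.trans hA)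
      have dB : finrank F B' = n := by
        have := R3.dm_sup_span (A := B') (v := b) fun h => hb (mem_sup_left (mem_sup_right h))
        rw [eB] at this; exact Nat.succ_injective (this.symm.trans hB)
      have pa : ∀ y ∈ A' ⊔ B', P.B y a = 0 := Bsup0 (fun y hy => tA.perp y (lA hy) a aA) hBa
      have pb : ∀ y ∈ A' ⊔ B', P.B y b = 0 := Bsup0 hAb (fun y hy => tB.perp y (lB hy) b bB)
      obtain ⟨w, hw, s, t, -, -, w1, w2, w3⟩ := u_exists_w hP (A' ⊔ B' ⊔ X) (tA.sing a aA) (tB.sing b bB)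
        (fun h => ha ((sup_le (sup_le_sup_right (sup_le_sup_left lB _) _)
          (sb.trans (le_sup_right.trans le_sup_left)) : _ ≤ A' ⊔ B ⊔ X) h))
        (fun h => hb ((sup_le (sup_le_sup_right (sup_le_sup_right lA _) _)
          (sa.trans (le_sup_left.trans le_sup_left)) : _ ≤ A ⊔ B' ⊔ X) h))
        (Bsup0 pa fun x hx => hp x hx a (mem_sup_left aA))
        (Bsup0 pb fun x hx => hp x hx b (mem_sup_right bB))
      obtain ⟨g, hg, g1, g2, g3⟩ := ih A' B' (X ⊔ F ∙ a ⊔ F ∙ b)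
        ⟨fun x hx => tA.sing x (lA hx), fun x hx y hy => tA.perp x (lA hx) y (lA hy)⟩
        ⟨fun x hx => tB.sing x (lB hx), fun x hx y hy => tB.perp x (lB hx) y (lB hy)⟩ dA dB
        (disjoint_def.2 fun z hz hz' => by
          obtain ⟨z1, hz1, z2, hz2, rfl⟩ := mem_sup.1 hz
          obtain ⟨x, hx, z3, hz3, rfl⟩ := mem_sup.1 hz1
          obtain ⟨t, rfl⟩ := mem_span_singleton.1 hz2
          obtain ⟨s, rfl⟩ := mem_span_singleton.1 hz3
          have hs : s = 0 := by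
            by_contra hs
            refine ha ((smul_mem_iff _ hs).1 ?_)
            have := sub_mem (sub_mem (mem_sup_left (T := X) (sup_le_sup_left lB A' hz'))
              (mem_sup_right hx)) (mem_sup_left (mem_sup_right (B.smul_mem t bB)))
            simpa [add_sub_assoc, add_sub_right_comm] using this
          have ht : t = 0 := by
            by_contra ht
            refine hb ((smul_mem_iff _ ht).1 ?_)
            have := sub_mem (mem_sup_left (T := X) (sup_le_sup_right lA B' hz')) (mem_sup_right hx)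
            simpa [hs] using this
          rw [hs, ht, zero_smul, zero_smul, add_zero, add_zero] at hz' ⊢
          exact disjoint_def.1 hd x hx (sup_le_sup lA lB hz'))
        (fun x hx y hy => Bsup0 (Bsup0 (fun x hx => hp x hx y (sup_le_sup lA lB hy))
          (Bspan0 (B_swap_zero (pa y hy)))) (Bspan0 (B_swap_zero (pb y hy))) x hx)
      have ga : g • a = a := g1 a (mem_sup_left (mem_sup_right (mem_span_singleton_self a)))
      have gb : g • b = b := g1 b (mem_sup_right (mem_span_singleton_self b))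
      refine ⟨g * w, mul_mem hg hw, fun x hx => ?_, fun x hx => ?_, fun x hx => ?_⟩
      · rw [mul_smul, w1 x (mem_sup_right hx), g1 x (mem_sup_left (mem_sup_left hx))]
      · obtain ⟨y, hy, z, hz, rfl⟩ := mem_sup.1 (eA.ge hx)
        obtain ⟨r, rfl⟩ := mem_span_singleton.1 hz
        rw [mul_smul, smul_add, act_smul, w1 y (mem_sup_left (mem_sup_left hy)), w2, smul_add, act_smul,
          act_smul, gb]
        exact add_mem (lB (g2 y hy)) (B.smul_mem _ (B.smul_mem _ bB))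
      · obtain ⟨y, hy, z, hz, rfl⟩ := mem_sup.1 (eB.ge hx)
        obtain ⟨r, rfl⟩ := mem_span_singleton.1 hz
        rw [mul_smul, smul_add, act_smul, w1 y (mem_sup_left (mem_sup_right hy)), w3, smul_add, act_smul,
          act_smul, ga]
        exact add_mem (lA (g3 y hy)) (A.smul_mem _ (A.smul_mem _ aA))
    by_cases h : ∃ a ∈ A, ∃ b ∈ B, P.B a b ≠ 0
    · obtain ⟨a, ha, b, hb, h⟩ := h
      refine step _ _ a b (hsplit ha h) (hsplit hb (B_swap_ne h)) (fun h' => h ?_)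
        (fun h' => B_swap_ne h ?_) (fun y hy => mem_perp_singleton.1 hy.2)
        (fun y hy => mem_perp_singleton.1 hy.2)
      · refine Bsup0 (Bsup0 ?_
          (fun y hy => tB.perp y hy b hb)) (fun x hx => hp x hx b (mem_sup_right hb)) a h'
        exact fun y hy => mem_perp_singleton.1 hy.2
      · refine Bsup0 (Bsup0 (fun y hy => tA.perp y hy a ha) ?_)
          (fun x hx => hp x hx a (mem_sup_left ha)) b h'
        exact fun y hy => mem_perp_singleton.1 hy.2
    · push Not at h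
      have cut : ∀ A B : Submodule F V, finrank F A = n + 1 → finrank F B = n + 1 → A ≠ B →
          Disjoint X (A ⊔ B) → ∃ (A' : Submodule F V) (a : V), A' ≤ A ∧ a ∈ A ∧ A' ⊔ F ∙ a = A ∧
            a ∉ A' ⊔ B ⊔ X := by
        intro A B hA hB hne hd
        have h1 : R3.dm (A ⊓ B) < R3.dm A := R3.dm_lt_of_not_le inf_le_left fun h' =>
          R3.not_le_of_ne (hA.trans hB.symm) hne (h'.trans inf_le_right)
        obtain ⟨A', l1, l2, l3⟩ := R3.exists_btw (inf_le_left : A ⊓ B ≤ A) (k := n)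
          (by rw [R3.dm, R3.dm] at h1; rw [R3.dm]; omega) (by rw [R3.dm]; omega)
        obtain ⟨a, ha, ha'⟩ := Set.not_subset.1 (show ¬ A ≤ A' from fun h' => by
          have := R3.dm_mono h'; rw [l3, R3.dm] at this; omega)
        refine ⟨A', a, l2, ha, R3.eq_of_dm (sup_le l2 ((span_singleton_le_iff_mem _ _).2 ha))
          (by rw [R3.dm_sup_span ha', l3, R3.dm, hA]), fun h' => ha' ?_⟩
        obtain ⟨z, hz, x, hx, e⟩ := mem_sup.1 h'
        obtain ⟨a', h3, b, hb, rfl⟩ := mem_sup.1 hz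
        have h4 : x = 0 := disjoint_def.1 hd x hx (by
          rw [eq_sub_iff_add_eq'.2 e]
          exact sub_mem (mem_sup_left ha) (add_mem_sup (l2 h3) hb))
        rw [h4, add_zero] at e
        rw [← e]
        exact A'.add_mem h3 (l1 ⟨by rw [eq_sub_iff_add_eq'.2 e]; exact A.sub_mem ha (l2 h3), hb⟩)
      obtain ⟨A', a, l1, a1, a2, a3⟩ := cut A B hA hB hAB hd
      obtain ⟨B', b, l2, b1, b2, b3⟩ := cut B A hB hA (Ne.symm hAB) (sup_comm A B ▸ hd)
      exact step A' B' a b a2 b2 a3 (sup_comm B' A ▸ b3) (fun y hy => h y (l1 hy) b b1)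
        (fun y hy => B_swap_zero (h a a1 y (l2 hy)))

/-- Two totally singular subspaces of the same dimension are interchanged by an element of `EG`. -/
theorem u_swap [FiniteDimensional F V] (hP : P.ND) {A B : Submodule F V} (hA : P.TotSing A)
    (hB : P.TotSing B) (h : finrank F A = finrank F B) :
    ∃ g ∈ P.EG, (∀ x ∈ A, g • x ∈ B) ∧ ∀ x ∈ B, g • x ∈ A :=
  (u_swap_aux hP _ A B ⊥ hA hB h rfl disjoint_bot_left (fun x hx y _ => by
    rw [(mem_bot F).1 hx]; simp)).imp fun _ h => ⟨h.1, h.2.2⟩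

variable (P) in
/-- the totally singular subspaces of a given dimension -/
def TS (j : ℕ) : Type _ := {A : Submodule F V // P.TotSing A ∧ finrank F A = j}

instance actTS (j : ℕ) : MulAction P.EG (TS P j) where
  smul g A := ⟨A.1.map ((g.1 : V ≃ₗ[F] V) : V →ₗ[F] V), ⟨by
    rintro _ ⟨x, hx, rfl⟩; exact (A.2.1.sing x hx).act g.1, by
    rintro _ ⟨x, hx, rfl⟩ _ ⟨y, hy, rfl⟩; exact (B_smul_smul g.1 x y).trans (A.2.1.perp x hx y hy)⟩,
    (LinearEquiv.finrank_map_eq _ _).trans A.2.2⟩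
  one_smul A := Subtype.ext (Submodule.map_id A.1)
  mul_smul _ _ A := Subtype.ext (Submodule.map_comp _ _ A.1)

instance finTS [Finite V] (j : ℕ) : Finite (TS P j) :=
  Finite.of_injective (fun A : TS P j => (A.1 : Set V)) fun _ _ e => Subtype.ext (SetLike.coe_injective e)

theorem TS.mem_smul {j : ℕ} {g : P.EG} {A : TS P j} {x : V} : x ∈ (g • A).1 ↔ ∃ y ∈ A.1, g.1 • y = x := Iff.rfl

theorem TS.smul_eq [FiniteDimensional F V] {j : ℕ} {g : P.EG} {A B : TS P j} (h : ∀ x ∈ A.1, g.1 • x ∈ B.1) :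
    g • A = B := Subtype.ext (Submodule.eq_of_le_of_finrank_eq (by rintro _ ⟨x, hx, rfl⟩; exact h x hx)
      ((g • A).2.2.trans B.2.2.symm))

theorem TS.swap [FiniteDimensional F V] (hP : P.ND) {j : ℕ} (A B : TS P j) :
    ∃ g : P.EG, g • A = B ∧ g • B = A := by
  obtain ⟨g, hg, h1, h2⟩ := u_swap hP A.2.1 B.2.1 (A.2.2.trans B.2.2.symm)
  exact ⟨⟨g, hg⟩, TS.smul_eq h1, TS.smul_eq h2⟩

theorem frame_li {m : ℕ} {sh : Bool} (Φ : Frame P m sh) : LinearIndependent F Φ.v := by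
  rw [Fintype.linearIndependent_iff]
  intro g hg i
  have := congrArg (P.B · (Φ.d i)) hg
  simp only [map_sum, LinearMap.sum_apply, B_smul_left] at this
  rw [Finset.sum_eq_single i (fun j _ hj => by rw [Φ.B_d hj.symm, mul_zero]) (by simp)] at this
  simpa [(Φ.hyp i).pair] using this

/-- the standard totally singular subspace -/
def flTS {m : ℕ} {sh : Bool} (Φ : Frame P m sh) {j : ℕ} (hj : j ≤ m + 1) : TS P j :=
  ⟨Φ.Fl j, ⟨fun x hx => Φ.sing_Fl (span_mono (Set.image_mono fun b hb => lt_of_lt_of_le hb hj) hx),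
    fun x hx y hy => by
      induction hy using Submodule.span_induction with
      | mem z hz =>
        obtain ⟨a, ha, rfl⟩ := hz
        exact Φ.B_Fl hx (by rw [Fin.val_rev]; have : (a : ℕ) < j := ha; omega)
      | zero => simp
      | add _ _ _ _ h h' => simp [h, h']
      | smul _ _ _ h => simp [h]⟩, by
    have h := finrank_span_eq_card ((frame_li Φ).comp (Fin.castLE (show j ≤ 2 * m + 2 by omega))
      (Fin.castLE_injective _))
    rw [Fintype.card_fin, Set.range_comp, Fin.range_castLE] at h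
    exact h⟩

/-- **Howlett's bound for unitary groups.** -/
theorem u_orb_lt [Finite V] (hP : P.ND) (h4 : 4 ≤ finrank F V) {X : Type*} [MulAction P.EG X] [Finite X]
    [IsPretransitive P.EG X] (x : X) :
    (∃ e, P.Sing e ∧ e ≠ 0 ∧ ∀ u : P.EG, u.1 ∈ P.U e → u • x = x) ∨ ∀ j, Nonempty (TS P j) →
    Nat.card (orbitRel.Quotient (stabilizer P.EG x) (TS P j)) <
      Nat.card (orbitRel.Quotient (stabilizer P.EG x) X) := by
  obtain ⟨e, h0, he⟩ := u_exists_sing P (by omega)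
  obtain ⟨m, sh, ⟨Φ⟩⟩ := exists_frame hP he h0
  have h1 := Φ.finrank_V0 hP
  have h2 : finrank F Φ.V0 ≤ 1 := by
    by_contra h
    obtain ⟨z, z0, hz⟩ := u_exists_sing (P.res Φ.V0) (by omega)
    exact z0 (Subtype.ext (Φ.aniso z z.2 hz))
  refine or_iff_not_imp_left.2 fun hn j ⟨A⟩ => ?_
  have h3 := finrank_perp hP A.1
  have h5 := Submodule.finrank_mono (show A.1 ≤ P.perp A.1 from fun x hx y hy => A.2.1.perp x hx y hy)
  rw [A.2.2] at h3 h5
  exact (cl_orb_lt Φ hP u_hmin (by omega) x (flTS Φ (show j ≤ m + 1 by omega))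
    (fun g hg => TS.smul_eq (hg j (by omega))) (TS.swap hP)).resolve_left hn

/-- in rank three: two of any three totally singular subspaces of the same dimension are conjugate -/
theorem u_two_orb [Finite V] (hP : P.ND) (h4 : 4 ≤ finrank F V) {X : Type*} [MulAction P.EG X] [Finite X]
    [IsPretransitive P.EG X] (x : X) (h3 : Nat.card (orbitRel.Quotient (stabilizer P.EG x) X) = 3) :
    (∃ e, P.Sing e ∧ e ≠ 0 ∧ ∀ u : P.EG, u.1 ∈ P.U e → u • x = x) ∨ ∀ j (A B C : TS P j),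
      ∃ g ∈ stabilizer P.EG x, g • A = B ∨ g • A = C ∨ g • B = C := by
  refine (u_orb_lt hP h4 x).imp_right fun h j A B C => ?_
  obtain ⟨i, i', hne, g, hg⟩ := SR.exists_conj_of_card_lt (h3 ▸ h j ⟨A⟩) ![A, B, C]
  fin_cases i <;> fin_cases i'
  all_goals first
    | exact absurd rfl hne
    | exact ⟨g, g.2, Or.inl hg⟩
    | exact ⟨g, g.2, Or.inr (Or.inl hg)⟩
    | exact ⟨g, g.2, Or.inr (Or.inr hg)⟩
    | exact ⟨_, g⁻¹.2, Or.inl (inv_smul_eq_iff.2 hg.symm)⟩
    | exact ⟨_, g⁻¹.2, Or.inr (Or.inl (inv_smul_eq_iff.2 hg.symm))⟩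
    | exact ⟨_, g⁻¹.2, Or.inr (Or.inr (inv_smul_eq_iff.2 hg.symm))⟩

end Cfsg.Agent.TT
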