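import Cfsg.Agent.TT.Core
import Cfsg.Agent.TT.Fish
import Cfsg.Agent.TT.Cl
import Cfsg.Agent.Polar.ULoc

set_option autoImplicit false

/-! Two-transitive actions of classical groups: generalities, transvections. -/

namespace Cfsg.Agent.TT
open MulAction Module Cfsg.Agent.Polar Cfsg.Agent.Polar.PQ Cfsg.Agent.Cl
open scoped commutatorElement

variable {F : Type*} [Field F] {τ : F →+* F} {π : FP F τ}
variable {V : Type*} [AddCommGroup V] [Module F V] {P : PQ π V}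

variable (P) in
/-- Eichler transformations as elements of `EG` -/
noncomputable def ee (e w : V) (c : F) : P.EG := ⟨P.eich e w c, eich_mem_EG e w c⟩

theorem cent_one (hP : P.ND) (hr : P.Rich) {e f : V} (h : P.Hyp e f) {g : P.EG} (hg : g ∈ Subgroup.center P.EG)
    {v : V} (hv : v ≠ 0) (h1 : g.1 • v = v) : g = 1 := by
  obtain ⟨t, ht⟩ := exists_scalar_of_commute hP hr h (z := g.1) fun k hk =>
    congrArg Subtype.val (Subgroup.mem_center_iff.1 hg ⟨k, hk⟩).symm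
  have : t = 1 := smul_left_injective F hv ((ht v).symm.trans (h1.trans (one_smul F v).symm))
  exact Subtype.ext (iso_ext fun x => by rw [ht, this, one_smul]; rfl)

theorem ee_ne {e f w : V} {c : F} (h : P.Hyp e f) (o : P.EOk e w c) (hw : P.B w f = 0) (h0 : w ≠ 0 ∨ c ≠ 0) :
    ee P e w c ≠ 1 := fun e1 => by
  have := h.eich_inj o hw (EOk.zero h.left) (by simp) ((congrArg Subtype.val e1).trans (eich_zero _).symm)
  tauto

variable (P) in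
/-- the kernel of the action is central -/
def Ker (Ω : Type*) [MulAction P.EG Ω] : Prop := ∀ g : P.EG, (∀ x : Ω, g • x = x) → g ∈ Subgroup.center P.EG

theorem transport (hP : P.ND) (hr : P.Rich) {e f : V} (h : P.Hyp e f) {G G0 Ω : Type*} [Group G] [Group G0]
    [MulAction G Ω] [FaithfulSMul G Ω] (ψ : G ≃* G0 ⧸ Subgroup.center G0) (φ : G0 ≃* P.EG)
    (h2 : IsMultiplyPretransitive G Ω 2) {C : Prop}
    (H : ∀ [MulAction P.EG Ω], T2 P.EG Ω → Ker P Ω → C) : C := by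
  let θ : P.EG →* G := (ψ.symm.toMonoidHom.comp (QuotientGroup.mk' _)).comp φ.symm.toMonoidHom
  have k : ∀ g, θ g = 1 → g ∈ Subgroup.center P.EG := fun g hg => by
    have : φ.symm g ∈ Subgroup.center G0 := (QuotientGroup.eq_one_iff _).1 (ψ.symm.map_eq_one_iff.1 hg)
    refine Subgroup.mem_center_iff.2 fun k => φ.symm.injective ?_
    rw [map_mul, map_mul, Subgroup.mem_center_iff.1 this]
  obtain ⟨w, hw, c, h0, hc⟩ := hr e f h
  have o : P.EOk e w c := ⟨h.left, (mem_perp_pair.1 hw).1, hc⟩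
  have : Nontrivial G := ⟨θ (ee P e w c), 1, fun e1 => ee_ne h o (mem_perp_pair.1 hw).2 (Or.inr h0)
    (cent_one hP hr h (k _ e1) h.left_ne_zero o.eich_smul_e)⟩
  let _ := MulAction.compHom Ω θ
  exact H ((T2.of_faithful h2).comp θ ((ψ.symm.surjective.comp (QuotientGroup.mk'_surjective _)).comp
    φ.symm.surjective)) fun g hg => k g (eq_of_smul_eq_smul (α := Ω) fun x => (hg x).trans (one_smul _ _).symm)

variable {Ω : Type*} [MulAction P.EG Ω]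

theorem Ker.move (hk : Ker P Ω) (hP : P.ND) (hr : P.Rich) {e f : V} (h : P.Hyp e f) {g : P.EG} (h0 : g ≠ 1)
    {v : V} (hv : v ≠ 0) (h1 : g.1 • v = v) : ∃ x : Ω, g • x ≠ x := by
  by_contra hc
  push Not at hc
  exact h0 (cent_one hP hr h (hk g hc) hv h1)

variable (P) in
/-- the stabilizer as a group of isometries -/
def Hx (x : Ω) : Subgroup P.Iso := (stabilizer P.EG x).map P.EG.subtype

theorem Hx_sub (x : Ω) : (Hx P x).subgroupOf P.EG = stabilizer P.EG x :=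
  Subgroup.comap_map_eq_self_of_injective Subtype.val_injective _

theorem mem_Hx {x : Ω} {g : P.EG} : g.1 ∈ Hx P x ↔ g • x = x := by
  rw [← Subgroup.mem_subgroupOf, Hx_sub, mem_stabilizer_iff]

theorem Hx_rel (x : Ω) {Γ : Subgroup P.Iso} (h : Γ ≤ P.EG) :
    (stabilizer P.EG x).relIndex (Γ.subgroupOf P.EG) = (Hx P x).relIndex Γ := by
  rw [← Hx_sub, Subgroup.relIndex_subgroupOf h]

theorem card_subEG {Γ : Subgroup P.Iso} (h : Γ ≤ P.EG) : Nat.card (Γ.subgroupOf P.EG) = Nat.card Γ :=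
  Nat.card_congr (Subgroup.subgroupOfEquivOfLe h).toEquiv

theorem map_mem {K : Subgroup P.EG} {g : P.EG} : g.1 ∈ K.map P.EG.subtype ↔ g ∈ K :=
  Subgroup.mem_map_iff_mem (f := P.EG.subtype) Subtype.val_injective

theorem T2.pt (h : T2 P.EG Ω) {x : Ω} {v : V} (hx : ∀ g : P.EG, g • x = x → g.1 ∈ P.pst v) {g1 g2 : P.EG}
    (h1 : g1.1 ∉ P.pst v) (h2 : g2.1 ∉ P.pst v) (h3 : P.B (g1.1 • v) v = 0) : P.B (g2.1 • v) v = 0 := by
  obtain ⟨g, e1, e2⟩ := h.two x (g1 • x) x (g2 • x) (fun e => h1 (hx _ e.symm)) fun e => h2 (hx _ e.symm)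
  obtain ⟨s, hs, e3⟩ := hx g e1
  obtain ⟨t, ht, e4⟩ := hx (g2⁻¹ * g * g1) (by rw [mul_smul, mul_smul, e2, inv_smul_smul])
  rw [Subgroup.coe_mul, Subgroup.coe_mul, mul_smul, mul_smul, Subgroup.coe_inv, inv_smul_eq_iff, act_smul] at e4
  rw [← B_smul_smul g.1, e4, e3, B_smul_left, B_smul_right] at h3
  simpa [hs, ht] using h3

theorem TZ_le_U {e : V} (he : P.Sing e) : TZ he ≤ P.U e := by
  rintro _ ⟨c, -, rfl⟩; exact eich_mem_U _ _ _

theorem card_TZ {e f : V} (h : P.Hyp e f) : Nat.card (TZ h.left) = Nat.card π.Λ :=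
  (Nat.card_congr (Equiv.ofBijective (fun c : π.Λ => (⟨_, c, c.2, rfl⟩ : TZ h.left)) ⟨fun c d e =>
    Subtype.ext (h.eich_inj (EOk.lam h.left c.2) (by simp) (EOk.lam h.left d.2) (by simp)
      (congrArg Subtype.val e)).2, fun ⟨_, c, hc, rfl⟩ => ⟨⟨c, hc⟩, rfl⟩⟩)).symm

theorem TZ_conj {e : V} (he : P.Sing e) : ∀ g ∈ (P.pst e).subgroupOf P.EG, ∀ z ∈ (TZ he).subgroupOf P.EG,
    g * z * g⁻¹ ∈ (TZ he).subgroupOf P.EG := by
  rintro g ⟨t, -, ht⟩ z ⟨c, hc, e⟩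
  refine ⟨t * τ t * c, π.lam_smul t c hc, ?_⟩
  rw [← conj_transvec he hc ht, ← e]; rfl

theorem TZ_comm {e : V} (he : P.Sing e) {g z : P.EG} (hg : g.1 • e = e) (hz : z ∈ (TZ he).subgroupOf P.EG) :
    g * z = z * g := by
  obtain ⟨c, hc, e⟩ := hz
  refine Subtype.ext ?_
  rw [Subgroup.coe_mul, Subgroup.coe_mul, show z.1 = _ from e]
  exact transvec_commute he hc hg

variable [Finite F] [Finite V] [Finite Ω]

omit [Finite F] in
theorem T2.Hx_index (h : T2 P.EG Ω) (x : Ω) : (Hx P x).relIndex P.EG = Nat.card Ω := by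
  rw [Subgroup.relIndex, Hx_sub, h.index_stab]

omit [Finite F] in
theorem T2.Hx_not (h : T2 P.EG Ω) (x : Ω) : ¬ P.EG ≤ Hx P x := fun e =>
  h.stab_ne_top x (by rw [← Hx_sub, Subgroup.subgroupOf_eq_top.2 e])

omit [Finite F] in
theorem T2.fish_pt (h : T2 P.EG Ω) {v : V} {g1 g2 : P.EG} (h1 : g1.1 ∉ P.pst v) (h2 : g2.1 ∉ P.pst v)
    (h3 : P.B (g1.1 • v) v = 0) (h4 : P.B (g2.1 • v) v ≠ 0) :
    (∀ x y : Ω, ∃ g ∈ (P.pst v).subgroupOf P.EG, g • x = y) ∨ Nat.card Ω < (P.pst v).relIndex P.EG :=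
  (h.fisher' _).imp_right fun k => lt_of_le_of_ne k.1 fun e => h4 ((k.2 e).pt (x := ((1 : P.EG) : P.EG ⧸ _))
    (fun g hg => by
      have : g ∈ stabilizer P.EG ((1 : P.EG) : P.EG ⧸ (P.pst v).subgroupOf P.EG) := hg
      rwa [stabilizer_quotient] at this) h1 h2 h3)

theorem cl_trans' (p : ℕ) [Fact p.Prime] [CharP F p] (hP : P.ND) (hr : P.Rich) (hmin : ∀ c ∈ π.Λ, ∃ b, c = b - π.ε * τ b) {r : ℕ}
    (h1 : ∀ W : Submodule F V, r ≤ finrank F W → ∃ z ∈ W, z ≠ 0 ∧ P.Sing z) (h2 : r + 2 ≤ finrank F V)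
    (h3 : (∃ c ∈ π.Λ, c ≠ 0) ∨ 7 ≤ finrank F V) (h : T2 P.EG Ω) :
    ∃ e e' w w', Hyp2 P e e' w w' ∧ ∀ x y : Ω, ∃ g : P.EG, (∃ t : F, t ≠ 0 ∧ g.1 • e = t • e) ∧
      (∃ s t : F, t ≠ 0 ∧ g.1 • w = s • e + t • w) ∧ g • x = y := by
  obtain ⟨z, -, h0, hz⟩ := h1 ⊤ (by rw [finrank_top]; omega)
  obtain ⟨m, sh, ⟨Φ⟩⟩ := exists_frame hP hz h0
  have k1 := Φ.finrank_V0 hP
  have k2 : finrank F Φ.V0 < r := not_le.1 fun e => by
    obtain ⟨z, hz, h0, h1⟩ := h1 _ e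
    exact h0 (Φ.aniso z hz h1)
  refine cl_trans Φ (p := p) hP hr hmin (by omega) (fun e => ?_) h
  have k3 : ¬ ∃ x ∈ Φ.V0, ∃ c, c ≠ 0 ∧ P.QEq x c := fun e' => by simp [Φ.short.2 e'] at e
  have k4 : Φ.V0 = ⊥ := eq_bot_iff.2 fun x hx => Φ.aniso x hx (by
    by_contra e; exact k3 ⟨x, hx, _, fun e' => e ((QEq.self x).congr e'), QEq.self x⟩)
  rw [k4, finrank_bot] at k1
  rcases h3 with ⟨c, hc, h0⟩ | h3
  · exact absurd ⟨0, zero_mem _, c, h0, (EOk.lam hz hc).val⟩ k3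
  · omega

variable {p : ℕ} [Fact p.Prime] [CharP F p]

theorem tv_core (hP : P.ND) (h : T2 P.EG Ω) (hk : Ker P Ω) {e f : V} (hf : P.Hyp e f) {c : F} (hc : c ∈ π.Λ)
    (h0 : c ≠ 0) (ht : ∀ x y : Ω, ∃ g ∈ (P.pst e).subgroupOf P.EG, g • x = y) :
    ∃ k a μ, k * p ^ a = Nat.card π.Λ ∧ 1 ≤ a ∧
      (∀ x : Ω, Nat.card ↥(stabilizer P.EG x ⊓ (TZ hf.left).subgroupOf P.EG) = k) ∧
      (∀ x : Ω, (stabilizer P.EG x).relIndex ((TZ hf.left).subgroupOf P.EG) = p ^ a) ∧ p ^ a ∣ Nat.card Ω ∧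
      μ * (Nat.card Ω - 1) = (P.pst e).relIndex P.EG * (p ^ a - 1) := by
  have o := EOk.lam hf.left hc
  obtain ⟨x, hx⟩ := hk.move hP (rich_of_lam ⟨c, hc, h0⟩) hf (ee_ne hf o (by simp) (Or.inr h0)) hf.left_ne_zero
    o.eich_smul_e
  rw [← card_TZ hf, ← card_subEG ((TZ_le_U _).trans hf.U_le_EG)]
  exact h.core ((isPGroup_Ue hf).to_le (TZ_le_U _)).comap_subtype (TZ_conj _) ht ⟨c, hc, rfl⟩ hx

theorem more_U (hP : P.ND) (hmin : ∀ c ∈ π.Λ, ∃ b, c = b - π.ε * τ b) {e f w : V} (hf : P.Hyp e f)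
    (hw : w ∈ P.perp {e, f}) (h0 : w ≠ 0) {a : ℕ} (ha : 1 ≤ a)
    (h : ∀ x : Ω, (stabilizer P.EG x).relIndex ((TZ hf.left).subgroupOf P.EG) = p ^ a) :
    p ^ (a + 1) ∣ Nat.card Ω := by
  refine more (isPGroup_Ue hf).comap_subtype (Subgroup.comap_mono (TZ_le_U _))
    (fun y hy z hz => TZ_comm _ hy.1 hz) (fun K hK => ?_) ha h
  rintro z ⟨c, hc, e1⟩
  obtain ⟨b, rfl⟩ := hmin c hc
  obtain ⟨u, hu, rfl⟩ := hf.exists_ne_perp hP hw h0 b
  have := eich_comm (EOk.of_perp hf.left (mem_perp_pair.1 hu).1) (EOk.of_perp hf.left (mem_perp_pair.1 hw).1)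
  rw [P.symm w u, ← e1] at this
  convert hK (ee P _ u (P.Q u)) (eich_mem_U _ _ _) (ee P _ w (P.Q w)) (eich_mem_U _ _ _) using 1
  exact Subtype.ext this.symm

theorem pow_ar {k a q n N : ℕ} (h1 : k * p ^ a = q) (h2 : N ≡ 1 [MOD p * q] ∨ k ≠ 1 ∧ N ≡ 1 [MOD q])
    (hq : ∃ f, q = p ^ f) (h3 : p ^ (a + 1) ∣ n) : n ≠ N * (p ^ a - 1) + 1 := by
  rintro rfl
  have hp := (Fact.out : p.Prime)
  have k1 : N ≡ 1 [MOD p ^ (a + 1)] := by
    rcases h2 with h2 | ⟨h2, h4⟩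
    · exact h2.of_dvd ⟨k, by rw [← h1]; ring⟩
    · obtain ⟨f, hf⟩ := hq
      obtain ⟨j, -, rfl⟩ := (Nat.dvd_prime_pow hp).1 ⟨_, (h1.trans hf).symm⟩
      obtain ⟨j, rfl⟩ : ∃ i, j = i + 1 := ⟨j - 1, by have : j ≠ 0 := (by rintro rfl; simp at h2); omega⟩
      exact h4.of_dvd ⟨p ^ j, by rw [← h1]; ring⟩
  have k2 := (k1.mul_right (p ^ a - 1)).add_right 1
  rw [one_mul, Nat.sub_add_cancel (Nat.one_le_pow _ _ hp.pos)] at k2
  have := Nat.le_of_dvd (pow_pos hp.pos _) ((k2.dvd_iff dvd_rfl).1 h3)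
  exact absurd ((Nat.pow_le_pow_iff_right hp.one_lt).1 this) (by omega)

variable (F p) in
omit [Finite V] in
theorem card_pow_char : ∃ f, 1 ≤ f ∧ Nat.card F = p ^ f := by
  have := Fintype.ofFinite F
  obtain ⟨n, -, hn⟩ := FiniteField.card F p
  exact ⟨n, n.2, Nat.card_eq_fintype_card.trans hn⟩

end Cfsg.Agent.TT
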