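import Cfsg.Agent.TT.Swap
import Cfsg.Agent.TT.Tv
/-!
# Rank three actions of unitary groups with parabolic point stabiliser
-/
set_option autoImplicit false
set_option linter.unusedSectionVars false

namespace Cfsg.Agent.TT
open MulAction Module Submodule Cfsg.Agent.Polar Cfsg.Agent.Polar.PQ Cfsg.Agent.Cl Cfsg.Agent.Forms

theorem four_orb {H Y : Type*} [Group H] [MulAction H Y] [Finite Y] (p1 p2 p3 : Y → Prop)
    (i1 : ∀ (g : H) y, p1 y → p1 (g • y)) (i2 : ∀ (g : H) y, p2 y → p2 (g • y))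
    (i3 : ∀ (g : H) y, p3 y → p3 (g • y)) {a b c d : Y} (ha : p1 a) (hb : ¬ p1 b ∧ p2 b)
    (hc : ¬ p1 c ∧ ¬ p2 c ∧ p3 c) (hd : ¬ p1 d ∧ ¬ p2 d ∧ ¬ p3 d) :
    4 ≤ Nat.card (orbitRel.Quotient H Y) := by
  by_contra h
  obtain ⟨i, i', hne, g, hg⟩ := SR.exists_conj_of_card_lt (not_le.1 h) ![a, b, c, d]
  have k : ∀ p : Y → Prop, (∀ (g : H) y, p y → p (g • y)) → (p (![a, b, c, d] i) ↔ p (![a, b, c, d] i')) :=
    fun p hp => ⟨fun h => hg ▸ hp g _ h, fun h => by simpa [← hg] using hp g⁻¹ _ h⟩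
  have k1 := k p1 i1
  have k2 := k p2 i2
  have k3 := k p3 i3
  fin_cases i <;> fin_cases i' <;> simp_all

variable {F : Type*} [Field F] [Fintype F] {q : ℕ} {hF : Fintype.card F = q ^ 2}
variable {V : Type*} [AddCommGroup V] [Module F V] {P : PQ (uFP hF) V}

theorem TS.cons [FiniteDimensional F V] {j : ℕ} (A : TS P j) {a : V} (sa : P.Sing a)
    (h : ∀ y ∈ A.1, P.B y a = 0) (ha : a ∉ A.1) :
    ∃ B : TS P (j + 1), ∀ x, x ∈ B.1 ↔ ∃ y ∈ A.1, ∃ r : F, y + r • a = x := by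
  have k : ∀ x, x ∈ A.1 ⊔ F ∙ a ↔ ∃ y ∈ A.1, ∃ r : F, y + r • a = x := fun x => by
    simp [mem_sup, mem_span_singleton]
  refine ⟨⟨A.1 ⊔ F ∙ a, ⟨fun x hx => ?_, fun x hx y hy => ?_⟩, (R3.dm_sup_span ha).trans (by
    rw [R3.dm, A.2.2])⟩, k⟩
  · obtain ⟨y, hy, r, rfl⟩ := (k x).1 hx
    exact (A.2.1.sing y hy).add (sa.smul r) (by simp [h y hy])
  · obtain ⟨z, hz, r, rfl⟩ := (k x).1 hx
    obtain ⟨u, hu, s, rfl⟩ := (k y).1 hy
    simp [A.2.1.perp z hz u hu, h z hz, B_swap_zero (h u hu), sa.B_self]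

theorem ts1 [FiniteDimensional F V] {a : V} (sa : P.Sing a) (a0 : a ≠ 0) :
    ∃ A : TS P 1, ∀ x, x ∈ A.1 ↔ ∃ r : F, r • a = x := by
  obtain ⟨A, h⟩ := TS.cons (P := P) ⟨⊥, ⟨by simp [sing_zero], by simp⟩, finrank_bot _ _⟩ sa (by simp) (by simpa)
  exact ⟨A, by simpa using h⟩

theorem ts2 [FiniteDimensional F V] {a b b' : V} (sa : P.Sing a) (sb : P.Sing b) (ab : P.B a b = 0)
    (a0 : a ≠ 0) (hb : P.B b b' ≠ 0) (ab' : P.B a b' = 0) :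
    ∃ A : TS P 2, ∀ x, x ∈ A.1 ↔ ∃ r s : F, r • a + s • b = x := by
  obtain ⟨A, h⟩ := ts1 sa a0
  obtain ⟨B, h'⟩ := A.cons sb (fun y hy => by obtain ⟨r, rfl⟩ := (h y).1 hy; simp [ab]) fun hy => by
    obtain ⟨r, rfl⟩ := (h _).1 hy; simp [ab'] at hb
  exact ⟨B, by simpa [h] using h'⟩

theorem ts3 [FiniteDimensional F V] {a b c b' c' : V} (sa : P.Sing a) (sb : P.Sing b) (sc : P.Sing c)
    (ab : P.B a b = 0) (ac : P.B a c = 0) (bc : P.B b c = 0) (a0 : a ≠ 0) (hb : P.B b b' ≠ 0)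
    (ab' : P.B a b' = 0) (hc : P.B c c' ≠ 0) (ac' : P.B a c' = 0) (bc' : P.B b c' = 0) :
    ∃ A : TS P 3, ∀ x, x ∈ A.1 ↔ ∃ r s t : F, r • a + s • b + t • c = x := by
  obtain ⟨A, h⟩ := ts2 sa sb ab a0 hb ab'
  obtain ⟨B, h'⟩ := A.cons sc (fun y hy => by obtain ⟨r, s, rfl⟩ := (h y).1 hy; simp [ac, bc]) fun hy => by
    obtain ⟨r, s, rfl⟩ := (h _).1 hy; simp [ac', bc'] at hc
  exact ⟨B, by simpa [h] using h'⟩

/-- a subgroup with at most three orbits on lines and on planes fixes no totally singular subspace of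
dimension at least two -/
theorem not_fix_ts [Finite V] (hP : P.ND) (h6 : 6 ≤ finrank F V) {H : Subgroup P.EG}
    (f2 : Nat.card (orbitRel.Quotient H (TS P 2)) ≤ 3) (f3 : Nat.card (orbitRel.Quotient H (TS P 3)) ≤ 3)
    {W : Submodule F V} (hW : P.TotSing W) (hH : ∀ g ∈ H, ∀ w ∈ W, g.1 • w ∈ W) {e w : V} (he : e ∈ W)
    (h0 : e ≠ 0) (hw : w ∈ W) : w ∈ F ∙ e := by
  by_contra hn
  obtain ⟨f, h1⟩ := hP.exists_hyp (hW.sing e he) h0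
  have m2 : w - P.B w f • e ∈ W := sub_mem hw (W.smul_mem _ he)
  have n2 : w - P.B w f • e ≠ 0 := fun h => hn (mem_span_singleton.2 ⟨_, (sub_eq_zero.1 h).symm⟩)
  have p2 : w - P.B w f • e ∈ P.perp {e, f} := mem_perp_pair.2 ⟨hW.perp _ m2 _ he, by simp [h1.pair]⟩
  generalize w - P.B w f • e = e2 at m2 n2 p2
  obtain ⟨f2', p2', h2⟩ := (nds_perp hP h1).exists_hyp p2 n2 (hW.sing _ m2)
  have k : Hyp2 P e f e2 f2' := ⟨h1, h2, (mem_perp_pair.1 p2).1, (mem_perp_pair.1 p2).2,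
    (mem_perp_pair.1 p2').1, (mem_perp_pair.1 p2').2⟩
  have i1 : ∀ j (g : H) (A : TS P j), A.1 ≤ W → (g • A).1 ≤ W := by
    rintro j g A h _ ⟨x, hx, rfl⟩; exact hH g g.2 x (h hx)
  have i3 : ∀ j (g : H) (A : TS P j), (∃ x ∈ A.1, x ∈ W ∧ x ≠ 0) → ∃ x ∈ (g • A).1, x ∈ W ∧ x ≠ 0 := by
    rintro j g A ⟨x, hx, h, h'⟩
    exact ⟨_, ⟨x, hx, rfl⟩, hH g g.2 x h, act_ne_zero _ h'⟩
  have o1 : P.B e f ≠ 0 := by rw [h1.pair]; exact one_ne_zero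
  have o2 : P.B e2 f2' ≠ 0 := by rw [h2.pair]; exact one_ne_zero
  have a1 := B_swap_zero k.we
  have a2 := B_swap_zero k.we'
  have a3 := B_swap_zero k.w'e
  have a4 := B_swap_zero k.w'e'
  by_cases h3 : ∃ e3 ∈ W, e3 ≠ 0 ∧ P.B e3 f = 0 ∧ P.B e3 f2' = 0
  · obtain ⟨e3, m3, n3, c1, c2⟩ := h3
    obtain ⟨f3, k3⟩ := k.exists_hyp3 hP (w := e3) ⟨mem_perp_pair.2 ⟨hW.perp _ m3 _ he, c1⟩,
      mem_perp_pair.2 ⟨hW.perp _ m3 _ m2, c2⟩⟩ (hW.sing _ m3) n3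
    have h3 := k3.ev.h2
    have o3 : P.B e3 f3 ≠ 0 := by rw [h3.pair]; exact one_ne_zero
    have b1 := B_swap_zero k3.ev.we
    have b2 := B_swap_zero k3.ev.we'
    have b3 := B_swap_zero k3.ev.w'e
    have b4 := B_swap_zero k3.ev.w'e'
    have d1 := B_swap_zero k3.wv.we
    have d2 := B_swap_zero k3.wv.we'
    have d3 := B_swap_zero k3.wv.w'e
    have d4 := B_swap_zero k3.wv.w'e'
    obtain ⟨A0, hA0⟩ := ts3 h1.left h2.left h3.left a1 b1 d1 h0 o2 a3 o3 b3 d3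
    obtain ⟨A1, hA1⟩ := ts3 h1.left h2.left h3.right a1 b3 d3 h0 o2 a3 (B_swap_ne o3) b1 d1
    obtain ⟨A2, hA2⟩ := ts3 h1.left h2.right h3.right a3 b3 d4 h0 (B_swap_ne o2) a1 (B_swap_ne o3) b1 d2
    obtain ⟨A3, hA3⟩ := ts3 h1.right h2.right h3.right a4 b4 d4 h1.right_ne_zero (B_swap_ne o2) a2
      (B_swap_ne o3) b2 d2
    have nf : f3 ∉ W := fun h => o3 (hW.perp _ m3 _ h)
    have z3 : ∀ x ∈ A3.1, x ∈ W → x = 0 := fun x hx h => by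
      obtain ⟨r, s, t, rfl⟩ := (hA3 x).1 hx
      have u1 := hW.perp _ h _ he
      have u2 := hW.perp _ h _ m2
      have u3 := hW.perp _ h _ m3
      simp [k.w'e, k3.ev.w'e, a2, k3.wv.w'e, b2, d2, B_swap_ne o1, B_swap_ne o2, B_swap_ne o3] at u1 u2 u3
      simp [u1, u2, u3]
    refine absurd (four_orb (H := H) (fun A : TS P 3 => A.1 ≤ W)
      (fun A => ∃ x ∈ A.1, ∃ y ∈ A.1, x ∈ W ∧ y ∈ W ∧ x ≠ 0 ∧ y ∉ F ∙ x) _ (i1 3) ?_ (i3 3)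
      (a := A0) (b := A1) (c := A2) (d := A3) ?_ ⟨fun h => nf (h ((hA1 _).2 ⟨0, 0, 1, by simp⟩)), ?_⟩
      ⟨fun h => nf (h ((hA2 _).2 ⟨0, 0, 1, by simp⟩)), ?_, e, (hA2 _).2 ⟨1, 0, 0, by simp⟩, he, h0⟩
      ⟨fun h => nf (h ((hA3 _).2 ⟨0, 0, 1, by simp⟩)), fun ⟨x, hx, _, _, h, _, h', _⟩ => h' (z3 x hx h),
        fun ⟨x, hx, h, h'⟩ => h' (z3 x hx h)⟩) (by omega)
    · rintro g A ⟨x, hx, y, hy, u1, u2, u3, u4⟩
      refine ⟨_, ⟨x, hx, rfl⟩, _, ⟨y, hy, rfl⟩, hH g g.2 x u1, hH g g.2 y u2, act_ne_zero _ u3, fun h => u4 ?_⟩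
      obtain ⟨r, hr⟩ := mem_span_singleton.1 h
      exact mem_span_singleton.2 ⟨r, MulAction.injective g.1.1 ((act_smul _ _ _).trans hr)⟩
    · intro x hx
      obtain ⟨r, s, t, rfl⟩ := (hA0 x).1 hx
      exact add_mem (add_mem (W.smul_mem _ he) (W.smul_mem _ m2)) (W.smul_mem _ m3)
    · refine ⟨e, (hA1 _).2 ⟨1, 0, 0, by simp⟩, e2, (hA1 _).2 ⟨0, 1, 0, by simp⟩, he, m2, h0, fun h => ?_⟩
      obtain ⟨r, rfl⟩ := mem_span_singleton.1 h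
      simp [a3] at o2
    · have z2 : ∀ x ∈ A2.1, x ∈ W → ∃ r : F, x = r • e := fun x hx h => by
        obtain ⟨r, s, t, rfl⟩ := (hA2 x).1 hx
        have u2 := hW.perp _ h _ m2
        have u3 := hW.perp _ h _ m3
        simp [a1, b1, k3.wv.w'e, d2, B_swap_ne o2, B_swap_ne o3] at u2 u3
        exact ⟨r, by simp [u2, u3]⟩
      rintro ⟨x, hx, y, hy, u1, u2, u3, u4⟩
      obtain ⟨r, rfl⟩ := z2 x hx u1
      obtain ⟨s, rfl⟩ := z2 y hy u2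
      exact u4 (mem_span_singleton.2 ⟨s / r, by rw [smul_smul, div_mul_cancel₀ _ (left_ne_zero_of_smul u3)]⟩)
  push Not at h3
  have hs : ∀ x ∈ W, x = P.B x f • e + P.B x f2' • e2 := fun x hx => by
    rw [← sub_eq_zero]
    by_contra h
    exact h3 _ (sub_mem hx (add_mem (W.smul_mem _ he) (W.smul_mem _ m2))) h (by simp [h1.pair, k.we'])
      (by simp [h2.pair, a3])
  obtain ⟨e3, f3, k3⟩ := exists_hyp3 hP (r := 2) (fun W hW => by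
    obtain ⟨x, h0, hx⟩ := u_exists_sing (P.res W) hW
    exact ⟨x, x.2, by simpa using h0, hx⟩) h6 k
  have h3 := k3.ev.h2
  have o3 : P.B e3 f3 ≠ 0 := by rw [h3.pair]; exact one_ne_zero
  obtain ⟨A0, hA0⟩ := ts2 h1.left h2.left a1 h0 o2 a3
  obtain ⟨A1, hA1⟩ := ts2 h1.left h3.left (B_swap_zero k3.ev.we) h0 o3 (B_swap_zero k3.ev.w'e)
  obtain ⟨A2, hA2⟩ := ts2 h1.left h2.right a3 h0 (B_swap_ne o2) a1
  obtain ⟨A3, hA3⟩ := ts2 h1.right h2.right a4 h1.right_ne_zero (B_swap_ne o2) a2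
  have nf : f2' ∉ W := fun h => o2 (hW.perp _ m2 _ h)
  refine absurd (four_orb (H := H) (fun A : TS P 2 => A.1 ≤ W)
    (fun A => ∀ x ∈ A.1, ∀ y ∈ W, P.B x y = 0) _ (i1 2) ?_ (i3 2)
    (a := A0) (b := A1) (c := A2) (d := A3) ?_ ⟨fun h => ?_, ?_⟩
    ⟨fun h => nf (h ((hA2 _).2 ⟨0, 1, by simp⟩)), fun h => B_swap_ne o2 (h _ ((hA2 _).2 ⟨0, 1, by simp⟩) _ m2),
      e, (hA2 _).2 ⟨1, 0, by simp⟩, he, h0⟩
    ⟨fun h => nf (h ((hA3 _).2 ⟨0, 1, by simp⟩)), fun h => B_swap_ne o2 (h _ ((hA3 _).2 ⟨0, 1, by simp⟩) _ m2),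
      ?_⟩) (by omega)
  · rintro g A h _ ⟨x, hx, rfl⟩ y hy
    exact (B_act_left g.1.1 x y).trans (h x hx _ (hH g⁻¹ g⁻¹.2 y hy))
  · intro x hx
    obtain ⟨r, s, rfl⟩ := (hA0 x).1 hx
    exact add_mem (W.smul_mem _ he) (W.smul_mem _ m2)
  · have := hs _ (h ((hA1 e3).2 ⟨0, 1, by simp⟩))
    rw [k3.ev.we', k3.wv.we', zero_smul, zero_smul, add_zero] at this
    exact h3.left_ne_zero this
  · intro x hx y hy
    obtain ⟨r, s, rfl⟩ := (hA1 x).1 hx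
    rw [hs y hy]
    simp [h1.left.B_self, a1, k3.ev.we, k3.wv.we]
  · rintro ⟨x, hx, h, h'⟩
    obtain ⟨r, s, rfl⟩ := (hA3 x).1 hx
    have u1 := hW.perp _ h _ he
    have u2 := hW.perp _ h _ m2
    simp [k.w'e, a2, B_swap_ne o1, B_swap_ne o2] at u1 u2
    simp [u1, u2] at h'

/-- the number of isotropic points -/
theorem u_pts [Finite V] (hP : P.ND) {e : V} (he : P.Sing e) (h0 : e ≠ 0) {n N : ℕ} (hn : finrank F V = n)
    (hN : N = (P.pst e).relIndex P.EG) :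
    (Even n → N * (q ^ 2 - 1) = (q ^ n - 1) * (q ^ (n - 1) + 1)) ∧
    (Odd n → N * (q ^ 2 - 1) = (q ^ n + 1) * (q ^ (n - 1) - 1)) := by
  have h1 := u_sing_index hP he h0
  have hq := two_le_q hF
  obtain ⟨f, hf⟩ := hP.exists_hyp he h0
  obtain ⟨d, rfl⟩ : ∃ d, n = d + 1 := ⟨n - 1, by have := hf.finrank_perp; omega⟩
  rw [← hN, mul_comm] at h1
  have h2 := u_count _ V P hP hn
  have h3 : ∀ k, 1 ≤ q ^ k := fun k => Nat.one_le_pow _ _ (by omega)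
  rw [← h1] at h2
  rw [Nat.add_sub_cancel]
  generalize N * (q ^ 2 - 1) = M at *
  refine ⟨fun h => ?_, fun h => ?_⟩
  · have := (h2.1 h).1
    zify [h3] at this ⊢
    refine mul_left_cancel₀ (show (q : ℤ) ≠ 0 by omega) ?_
    linear_combination this
  · have := (h2.2 h).1
    zify [h3] at this ⊢
    refine mul_left_cancel₀ (show (q : ℤ) ≠ 0 by omega) ?_
    linear_combination this

/-- **The parabolic case.** -/
theorem u_par [Finite V] (hP : P.ND) (h6 : 6 ≤ finrank F V) {X : Type*} [MulAction P.EG X] [Finite X]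
    [IsPretransitive P.EG X] (x : X) (hmax : IsCoatom (stabilizer P.EG x))
    (h3 : Nat.card (orbitRel.Quotient (stabilizer P.EG x) X) = 3) {e : V} (he : P.Sing e) (h0 : e ≠ 0)
    (hU : ∀ u : P.EG, u.1 ∈ P.U e → u • x = x) : Nat.card X = (P.pst e).relIndex P.EG := by
  obtain ⟨f, hf⟩ := hP.exists_hyp he h0
  obtain ⟨W, w1, w2, w3, w4⟩ := fix_ts hP (H := Hx P x) (fun h => hmax.1 (eq_top_iff.2 fun g _ =>
    mem_Hx.1 (h g.2))) he fun u hu => (mem_Hx (g := ⟨u, hf.U_le_EG hu⟩)).2 (hU _ hu)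
  have h1 : stabilizer P.EG x ≤ (P.pst e).subgroupOf P.EG := fun g hg => by
    obtain ⟨t, ht⟩ := mem_span_singleton.1 (not_fix_ts hP h6 (h3 ▸ SR.orb_le x (TS.swap hP))
      (h3 ▸ SR.orb_le x (TS.swap hP)) ⟨w2, w3⟩ (fun g hg => w4 _ (mem_Hx.2 hg)) w1 h0 (w4 _ (mem_Hx.2 hg) e w1))
    exact mem_pst_of_eq h0 ht.symm
  rw [← index_stabilizer_of_transitive P.EG x, Subgroup.relIndex, ← (hmax.le_iff.1 h1).resolve_left fun h => ?_]
  obtain ⟨g, hg, e1⟩ := u_vTrans hP (by omega) e f hf.left hf.right h0 hf.right_ne_zero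
  obtain ⟨t, -, ht⟩ := h.ge (Subgroup.mem_top ⟨g, hg⟩)
  have := hf.pair
  rw [← e1, show g • e = t • e from ht, B_smul_right, he.B_self, mul_zero] at this
  exact zero_ne_one this

end Cfsg.Agent.TT
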